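import Cfsg.Agent.H58.WeakJ1.Model
import Mathlib.GroupTheory.Sylow

/-!
Weak closure of an involution in its centraliser, and embeddings of `Z2 × A5`.
-/

set_option autoImplicit false

namespace H58.WJ1

open Subgroup H16.J1

universe u

variable {G : Type u} [Group G]

/-- The weak closure of `t` in its centraliser. -/
def wcl (t : G) : Subgroup G :=
  closure {x : G | ∃ g : G, x = g * t * g⁻¹ ∧ x * t = t * x}

theorem mem_wcl_of_conj {t x : G} (h : ∃ g : G, x = g * t * g⁻¹) (hc : x * t = t * x) :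
    x ∈ wcl t := by
  obtain ⟨g, hg⟩ := h
  exact subset_closure ⟨g, hg, hc⟩

theorem self_mem_wcl (t : G) : t ∈ wcl t := mem_wcl_of_conj ⟨1, by simp⟩ rfl

theorem wcl_le_centralizer (t : G) : wcl t ≤ centralizer ({t} : Set G) :=
  (closure_le _).2 fun _ ⟨_, _, hc⟩ => mem_centralizer_singleton_iff.2 hc

theorem wcl_comm {t x : G} (hx : x ∈ wcl t) : x * t = t * x :=
  mem_centralizer_singleton_iff.1 (wcl_le_centralizer t hx)

theorem mem_map_conj {H : Subgroup G} {g x : G} :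
    x ∈ H.map (MulAut.conj g).toMonoidHom ↔ g⁻¹ * x * g ∈ H := by
  rw [mem_map_equiv, MulAut.conj_symm_apply]

theorem conj_mem_map {H : Subgroup G} {g x : G} (hx : x ∈ H) :
    g * x * g⁻¹ ∈ H.map (MulAut.conj g).toMonoidHom :=
  ⟨x, hx, rfl⟩

theorem wcl_conj (g t : G) : wcl (g * t * g⁻¹) = (wcl t).map (MulAut.conj g).toMonoidHom := by
  refine le_antisymm ((closure_le _).2 ?_) ?_
  · rintro x ⟨k, hk, hc⟩
    refine mem_map_conj.2 (mem_wcl_of_conj ⟨g⁻¹ * k * g, by rw [hk]; group⟩ ?_)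
    calc g⁻¹ * x * g * t = g⁻¹ * (x * (g * t * g⁻¹)) * g := by group
      _ = g⁻¹ * (g * t * g⁻¹ * x) * g := by rw [hc]
      _ = t * (g⁻¹ * x * g) := by group
  · rw [map_le_iff_le_comap]
    refine (closure_le _).2 ?_
    rintro x ⟨k, hk, hc⟩
    refine mem_wcl_of_conj (x := g * x * g⁻¹) ⟨g * k * g⁻¹, by rw [hk]; group⟩ ?_
    calc g * x * g⁻¹ * (g * t * g⁻¹) = g * (x * t) * g⁻¹ := by group
      _ = g * (t * x) * g⁻¹ := by rw [hc]
      _ = g * t * g⁻¹ * (g * x * g⁻¹) := by group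

theorem wcl_conj_mem {g t x : G} (hx : x ∈ wcl t) : g * x * g⁻¹ ∈ wcl (g * t * g⁻¹) :=
  wcl_conj g t ▸ conj_mem_map hx

theorem wcl_invariant {c t x : G} (hc : c * t = t * c) (hx : x ∈ wcl t) : c * x * c⁻¹ ∈ wcl t := by
  have h := wcl_conj_mem (g := c) hx
  rwa [hc, mul_inv_cancel_right] at h

theorem mem_normalizer_of_forall [Finite G] {H : Subgroup G} {k : G}
    (h : ∀ x ∈ H, k * x * k⁻¹ ∈ H) : k ∈ normalizer (H : Set G) := by
  have he : H.map (MulAut.conj k).toMonoidHom = H := by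
    refine eq_of_le_of_card_ge (fun x ⟨y, hy, hx⟩ => hx ▸ h y hy) ?_
    rw [card_map_of_injective (MulAut.conj k).injective]
  refine mem_normalizer_iff.2 fun x => ⟨h x, fun hx => ?_⟩
  rw [← he] at hx
  have := mem_map_conj.1 hx
  rwa [show k⁻¹ * (k * x * k⁻¹) * k = x by group] at this

theorem conj_mem_of_mem_normalizer {H : Subgroup G} {k x : G} (hk : k ∈ normalizer (H : Set G))
    (hx : x ∈ H) : k * x * k⁻¹ ∈ H :=
  (mem_normalizer_iff.1 hk x).1 hx

/-- A subgroup of a group containing a Sylow subgroup is conjugate into it. -/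
theorem conj_into_sylow [Finite G] {p : ℕ} [Fact p.Prime] (K : Subgroup G) (S : Sylow p G)
    (hS : (S : Subgroup G) ≤ K) (P : Subgroup G) (hP : IsPGroup p P) (hPK : P ≤ K) :
    ∃ k ∈ K, ∀ x ∈ P, k * x * k⁻¹ ∈ (S : Subgroup G) := by
  obtain ⟨R, hR⟩ := (hP.comap_of_injective K.subtype K.subtype_injective).exists_le_sylow
  obtain ⟨k, hk⟩ := MulAction.exists_smul_eq K R (S.subtype hS)
  refine ⟨k, k.2, fun x hx => ?_⟩
  have hxR : (⟨x, hPK hx⟩ : K) ∈ (R : Subgroup K) := hR hx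
  have h1 : k * ⟨x, hPK hx⟩ * k⁻¹ ∈ ((k • R : Sylow p K) : Subgroup K) := by
    rw [Sylow.smul_def, Sylow.pointwise_smul_def, mem_pointwise_smul_iff_inv_smul_mem,
      ← map_inv, MulAut.smul_def, MulAut.conj_apply]
    convert hxR using 1
    group
  rw [hk] at h1
  exact h1

/-- An embedding of `Z2 × A5` onto the weak closure of `s`, sending `sylM` onto `E`. -/
structure Emb (E : Subgroup G) (s : G) where
  φ : Model →* G
  inj : Function.Injective φ
  range_eq : φ.range = wcl s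
  map_tau : φ tau = s
  map_syl : sylM.map φ = E

namespace Emb

variable {E : Subgroup G} {s : G} (e : Emb E s)

/-- The four-group inside the component. -/
def V : Subgroup G := fourM.map e.φ

/-- The element of order three normalising `E` and centralising `s`. -/
def h : G := e.φ m3

theorem mem_wcl (m : Model) : e.φ m ∈ wcl s := e.range_eq ▸ ⟨m, rfl⟩

theorem exists_of_mem {x : G} (hx : x ∈ wcl s) : ∃ m, e.φ m = x := by
  rw [← e.range_eq] at hx
  exact hx

theorem exists_syl {x : G} (hx : x ∈ E) : ∃ m ∈ sylM, e.φ m = x := by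
  rw [← e.map_syl] at hx
  exact hx

theorem syl_mem {m : Model} (hm : m ∈ sylM) : e.φ m ∈ E :=
  e.map_syl.le (mem_map_of_mem e.φ hm)

include e in
theorem le_wcl : E ≤ wcl s := fun x hx => by
  obtain ⟨m, -, rfl⟩ := e.exists_syl hx
  exact e.mem_wcl m

theorem V_le : e.V ≤ E := fun x ⟨m, hm, hx⟩ => hx ▸ e.syl_mem (fourM_le hm)

include e in
theorem self_mem : s ∈ E := e.map_tau ▸ e.syl_mem tau_mem

include e in
theorem sq {x : G} (hx : x ∈ E) : x * x = 1 := by
  obtain ⟨m, hm, rfl⟩ := e.exists_syl hx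
  rw [← map_mul, sylM_sq hm, map_one]

include e in
theorem inv_eq {x : G} (hx : x ∈ E) : x⁻¹ = x := inv_eq_of_mul_eq_one_right (e.sq hx)

include e in
theorem comm {x y : G} (hx : x ∈ E) (hy : y ∈ E) : x * y = y * x := by
  have h := e.inv_eq (E.mul_mem hx hy)
  rwa [mul_inv_rev, e.inv_eq hx, e.inv_eq hy, eq_comm] at h

include e in
theorem ne_one : s ≠ 1 := fun h => tau_ne (e.inj (e.map_tau.trans (h.trans (map_one e.φ).symm)))

include e in
theorem orderOf_eq : orderOf s = 2 :=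
  orderOf_eq_prime (by rw [pow_two]; exact e.sq e.self_mem) e.ne_one

include e in
theorem card_eq : Nat.card E = 8 := by
  rw [← e.map_syl, card_map_of_injective e.inj, card_sylM]

theorem card_V : Nat.card e.V = 4 := by
  rw [V, card_map_of_injective e.inj, card_fourM]

theorem cases {x : G} (hx : x ∈ E) : x ∈ e.V ∨ s * x ∈ e.V := by
  obtain ⟨m, hm, rfl⟩ := e.exists_syl hx
  rcases one_or_tau hm with h | h
  · exact Or.inl ⟨m, h, rfl⟩
  · exact Or.inr ⟨tau * m, h, by rw [map_mul, e.map_tau]⟩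

theorem not_both {x : G} (hx : x ∈ e.V) : s * x ∉ e.V := by
  obtain ⟨m, hm, rfl⟩ := hx
  rintro ⟨m', hm', he⟩
  have : m' = tau * m := e.inj (by rw [map_mul, e.map_tau, he])
  exact not_fourM_of_tau hm (this ▸ hm')

theorem self_not_mem : s ∉ e.V := fun h => e.not_both (one_mem _) (by rwa [mul_one])

theorem h_comm : e.h * s = s * e.h := by
  have h1 := congrArg e.φ m3_tau
  rwa [map_mul, map_mul, e.map_tau] at h1

theorem h_mem : e.h ∈ wcl s := e.mem_wcl _

theorem h_cube : e.h ^ 3 = 1 := by rw [h, ← map_pow, m3_cube, map_one]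

theorem h_conj {x : G} (hx : x ∈ E) : e.h * x * e.h⁻¹ ∈ E := by
  obtain ⟨m, hm, rfl⟩ := e.exists_syl hx
  rw [h, ← map_inv, ← map_mul, ← map_mul]
  exact e.syl_mem (m3_norm hm)

theorem h_normalizer [Finite G] : e.h ∈ normalizer (E : Set G) :=
  mem_normalizer_of_forall fun _ hx => e.h_conj hx

theorem h_conj_V {x : G} (hx : x ∈ e.V) : e.h * x * e.h⁻¹ ∈ e.V := by
  obtain ⟨m, hm, rfl⟩ := hx
  refine ⟨m3 * m * m3⁻¹, ⟨?_, m3_norm (fourM_le hm)⟩, by rw [h, map_mul, map_mul, map_inv]⟩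
  simp [m3, hm.1]

theorem h_fix {x : G} (hx : x ∈ E) (hc : e.h * x = x * e.h) : x = 1 ∨ x = s := by
  obtain ⟨m, hm, rfl⟩ := e.exists_syl hx
  rw [h, ← map_mul, ← map_mul] at hc
  rcases fix_m3 hm (e.inj hc).symm with rfl | rfl
  · exact Or.inl (map_one _)
  · exact Or.inr e.map_tau

theorem h_moves {x : G} (hx : x ∈ E) (h1 : x ≠ 1) (h2 : x ≠ s) : e.h * x * e.h⁻¹ ≠ x :=
  fun he => (e.h_fix hx (mul_inv_eq_iff_eq_mul.1 he)).elim h1 h2

theorem h_trans {a b : G} (ha : a ∈ e.V) (ha1 : a ≠ 1) (hb : b ∈ e.V) (hb1 : b ≠ 1) :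
    a = b ∨ e.h * a * e.h⁻¹ = b ∨ e.h * (e.h * a * e.h⁻¹) * e.h⁻¹ = b := by
  obtain ⟨m, hm, rfl⟩ := ha
  obtain ⟨m', hm', rfl⟩ := hb
  have h1 : m ≠ 1 := fun he => ha1 (by rw [he, map_one])
  have h2 : m' ≠ 1 := fun he => hb1 (by rw [he, map_one])
  rcases trans_m3 hm h1 hm' h2 with h | h | h
  · exact Or.inl (by rw [h])
  · exact Or.inr (Or.inl (by rw [← h, Emb.h]; simp only [map_mul, map_inv]))
  · exact Or.inr (Or.inr (by rw [← h, Emb.h]; simp only [map_mul, map_inv]))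

/-- A set invariant under `h` containing one element of a class contains all of it. -/
theorem class_mem {O : Set G} (hO : ∀ x ∈ O, e.h * x * e.h⁻¹ ∈ O) {a b : G} (ha : a ∈ e.V)
    (ha1 : a ≠ 1) (hb : b ∈ e.V) (hb1 : b ≠ 1) :
    (a ∈ O → b ∈ O) ∧ (s * a ∈ O → s * b ∈ O) := by
  have hs : ∀ y : G, e.h * (s * y) * e.h⁻¹ = s * (e.h * y * e.h⁻¹) := fun y => by
    rw [← mul_assoc, e.h_comm]; group
  constructor
  · intro hm
    rcases e.h_trans ha ha1 hb hb1 with h | h | h <;> rw [← h]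
    exacts [hm, hO _ hm, hO _ (hO _ hm)]
  · intro hm
    rcases e.h_trans ha ha1 hb hb1 with h | h | h <;> rw [← h]
    · exact hm
    · rw [← hs]; exact hO _ hm
    · rw [← hs, ← hs]; exact hO _ (hO _ hm)

include e in
theorem center {x : G} (hx : x ∈ wcl s) (hc : ∀ y ∈ wcl s, x * y = y * x) : x = 1 ∨ x = s := by
  obtain ⟨m, rfl⟩ := e.exists_of_mem hx
  have hc' : ∀ k, m * k = k * m := fun k =>
    e.inj (by rw [map_mul, map_mul]; exact hc _ (e.mem_wcl k))
  rcases center_mem hc' with rfl | rfl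
  · exact Or.inl (map_one _)
  · exact Or.inr e.map_tau

include e in
/-- Involutions of the weak closure are conjugate into `E`. -/
theorem invol_conj {y : G} (hy : y ∈ wcl s) (hyy : y * y = 1) :
    ∃ w ∈ wcl s, w * y * w⁻¹ ∈ E := by
  obtain ⟨m, rfl⟩ := e.exists_of_mem hy
  obtain ⟨k, hk⟩ := WJ1.invol_conj (m := m) (e.inj (by rw [map_mul, hyy, map_one]))
  exact ⟨e.φ k, e.mem_wcl k, by rw [← map_inv, ← map_mul, ← map_mul]; exact e.syl_mem hk⟩

/-- An element centralising `s` acts on the weak closure of `s`. -/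
theorem exists_aut {c : G} (hc : c * s = s * c) :
    ∃ α : Model ≃* Model, ∀ m, c * e.φ m * c⁻¹ = e.φ (α m) := by
  have hex : ∀ m, ∃ m', e.φ m' = c * e.φ m * c⁻¹ := fun m =>
    e.exists_of_mem (wcl_invariant hc (e.mem_wcl m))
  choose f hf using hex
  have hmul : ∀ a b, f (a * b) = f a * f b := fun a b => e.inj (by
    rw [map_mul e.φ (f a), hf, hf, hf, map_mul]; group)
  let F : Model →* Model := MonoidHom.mk' f hmul
  have hinj : Function.Injective F := fun a b hab => e.inj (by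
    have h1 := congrArg e.φ hab
    change e.φ (f a) = e.φ (f b) at h1
    rw [hf, hf] at h1
    simpa using h1)
  exact ⟨MulEquiv.ofBijective F ⟨hinj, Finite.surjective_of_injective hinj⟩, fun m => (hf m).symm⟩

/-- An element centralising `s` and normalising `E` preserves `V`. -/
theorem conj_V {c : G} (hc : c * s = s * c) (hE : ∀ x ∈ E, c * x * c⁻¹ ∈ E) {x : G}
    (hx : x ∈ e.V) : c * x * c⁻¹ ∈ e.V := by
  obtain ⟨m, hm, rfl⟩ := hx
  obtain ⟨α, hα⟩ := e.exists_aut hc
  obtain ⟨m', hm', he⟩ := e.exists_syl (hE _ (e.syl_mem (fourM_le hm)))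
  rw [hα] at he
  rw [hα]
  exact ⟨α m, ⟨aut_fst α hm.1, (e.inj he ▸ hm' : α m ∈ sylM)⟩, rfl⟩

/-- An element centralising `E` acts on the weak closure of `s` as an element of `V`. -/
theorem act {c : G} (hcE : ∀ x ∈ E, c * x = x * c) :
    ∃ v ∈ e.V, ∀ w ∈ wcl s, c * w * c⁻¹ = v * w * v⁻¹ := by
  obtain ⟨α, hα⟩ := e.exists_aut (hcE s e.self_mem)
  obtain ⟨v, hv, hv'⟩ := aut_fix α fun m hm => e.inj (by
    rw [← hα, hcE _ (e.syl_mem hm), mul_inv_cancel_right])
  refine ⟨e.φ v, ⟨v, hv, rfl⟩, fun w hw => ?_⟩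
  obtain ⟨m, rfl⟩ := e.exists_of_mem hw
  rw [hα, hv', map_mul, map_mul, map_inv]

end Emb

/-- Adjusting an isomorphism to a given subgroup of order eight. -/
theorem exists_emb {E : Subgroup G} {s : G} (φ : Model →* G) (hinj : Function.Injective φ)
    (hrange : φ.range = wcl s) (htau : φ tau = s) (hE : E ≤ wcl s) (hcard : Nat.card E = 8) :
    Nonempty (Emb E s) := by
  have hle : E ≤ φ.range := hrange ▸ hE
  have hmap : (E.comap φ).map φ = E := map_comap_eq_self hle
  have hP : Nat.card (E.comap φ) = 8 := by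
    rw [Nat.card_congr ((E.comap φ).equivMapOfInjective φ hinj).toEquiv, hmap, hcard]
  obtain ⟨k, hk⟩ := sylM_conj _ hP
  refine ⟨⟨φ.comp (MulAut.conj k⁻¹).toMonoidHom, hinj.comp (MulAut.conj k⁻¹).injective, ?_, ?_, ?_⟩⟩
  · rw [MonoidHom.range_comp, MonoidHom.range_eq_top.2 (MulAut.conj k⁻¹).surjective,
      ← MonoidHom.range_eq_map, hrange]
  · show φ (k⁻¹ * tau * k⁻¹⁻¹) = s
    rw [← tau_central, mul_assoc, mul_inv_cancel, mul_one, htau]
  · rw [← hk, ← map_map, map_map (E.comap φ)]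
    have : ((MulAut.conj k⁻¹).toMonoidHom.comp (MulAut.conj k).toMonoidHom) = MonoidHom.id Model :=
      MonoidHom.ext fun m => by simp [mul_assoc]
    rw [this, map_id, hmap]

/-- The hypothesis. -/
structure Hyp (G : Type u) [Group G] where
  t : G
  S : Sylow 2 G
  ht : orderOf t = 2
  htS : t ∈ (S : Subgroup G)
  htc : ∀ s ∈ (S : Subgroup G), s * t = t * s
  iso : Nonempty (wcl t ≃* Model)

namespace Hyp

variable (X : Hyp G)

theorem tt : X.t * X.t = 1 := by rw [← pow_two, ← X.ht, pow_orderOf_eq_one]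

theorem t_ne : X.t ≠ 1 := fun h => by
  have := X.ht
  rw [h, orderOf_one] at this
  norm_num at this

/-- The Sylow subgroup of the weak closure of `t`. -/
def E : Subgroup G := (X.S : Subgroup G) ⊓ wcl X.t

theorem t_mem_E : X.t ∈ X.E := ⟨X.htS, self_mem_wcl _⟩

theorem exists_iso : ∃ φ : Model →* G, Function.Injective φ ∧ φ.range = wcl X.t ∧
    φ tau = X.t := by
  obtain ⟨i⟩ := X.iso
  let φ := (wcl X.t).subtype.comp i.symm.toMonoidHom
  refine ⟨φ, (wcl X.t).subtype_injective.comp i.symm.injective, ?_, ?_⟩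
  · rw [MonoidHom.range_comp, MonoidHom.range_eq_top.2 i.symm.surjective,
      ← MonoidHom.range_eq_map, range_subtype]
  · let t' : wcl X.t := ⟨X.t, self_mem_wcl _⟩
    have h : i t' = tau := by
      refine center_eq_tau _ ?_ ?_ fun k => ?_
      · rw [← map_pow, pow_two]
        have : t' * t' = 1 := Subtype.ext X.tt
        rw [this, map_one]
      · intro h
        rw [MulEquiv.map_eq_one_iff] at h
        exact X.t_ne (congrArg Subtype.val h)
      · obtain ⟨g, rfl⟩ := i.surjective k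
        rw [← map_mul, ← map_mul]
        exact congrArg i (Subtype.ext (wcl_comm g.2).symm)
    show (wcl X.t).subtype (i.symm tau) = X.t
    rw [← h, i.symm_apply_apply]
    rfl

variable [Finite G]

theorem card_E : Nat.card X.E = 8 := by
  haveI : Fact (Nat.Prime 2) := ⟨Nat.prime_two⟩
  obtain ⟨φ, hinj, hrange, htau⟩ := X.exists_iso
  have hSC : (X.S : Subgroup G) ≤ centralizer ({X.t} : Set G) := fun x hx =>
    mem_centralizer_singleton_iff.2 (X.htc x hx)
  have hPW : sylM.map φ ≤ wcl X.t := hrange ▸ map_le_range φ sylM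
  obtain ⟨c, hc, hcS⟩ := conj_into_sylow _ X.S hSC _ (sylM_two.map φ)
    (hPW.trans (wcl_le_centralizer _))
  have hge : (sylM.map φ).map (MulAut.conj c).toMonoidHom ≤ X.E := by
    rintro _ ⟨x, hx, rfl⟩
    exact ⟨hcS x hx, wcl_invariant (mem_centralizer_singleton_iff.1 hc) (hPW hx)⟩
  have h8 : 8 ≤ Nat.card X.E := by
    have := card_le_of_le hge
    rwa [card_map_of_injective (MulAut.conj c).injective, card_map_of_injective hinj,
      card_sylM] at this
  have hE2 : IsPGroup 2 X.E := X.S.2.to_le inf_le_left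
  obtain ⟨n, hn⟩ := IsPGroup.iff_card.1 hE2
  have hd : Nat.card X.E ∣ 120 := by
    obtain ⟨i⟩ := X.iso
    have h1 : Nat.card X.E ∣ Nat.card (wcl X.t) := card_dvd_of_le inf_le_right
    rwa [Nat.card_congr i.toEquiv, card_model] at h1
  have hn3 : n ≤ 3 := by
    by_contra h
    have h16 : 2 ^ 4 ∣ 120 := (pow_dvd_pow 2 (show 4 ≤ n by omega)).trans (hn ▸ hd)
    norm_num at h16
  have : 2 ^ n ≤ 2 ^ 3 := Nat.pow_le_pow_right (by norm_num) hn3
  omega

theorem exists_et : Nonempty (Emb X.E X.t) := by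
  obtain ⟨φ, hinj, hrange, htau⟩ := X.exists_iso
  exact exists_emb φ hinj hrange htau inf_le_right X.card_E

/-- The embedding for `t`. -/
noncomputable def et : Emb X.E X.t := X.exists_et.some

theorem mem_E_of_conj {x : G} (hx : x ∈ (X.S : Subgroup G)) (h : ∃ g : G, x = g * X.t * g⁻¹) :
    x ∈ X.E :=
  ⟨hx, mem_wcl_of_conj h (X.htc x hx)⟩

omit [Finite G] in
theorem conj_sq {x : G} (h : ∃ g : G, x = g * X.t * g⁻¹) : x * x = 1 := by
  obtain ⟨g, rfl⟩ := h
  rw [conj_mul, X.tt, mul_one, mul_inv_cancel]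

end Hyp

end H58.WJ1
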