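import Cfsg.Agent.H58.WeakJ1.Sub
import Cfsg.Agent.H67.SECount

/-!
The induction.
-/

set_option autoImplicit false
set_option maxHeartbeats 400000

namespace H58.WJ1

open Subgroup H16.J1

universe u

variable {G : Type u} [Group G] [Finite G]

/-- The statement for all smaller groups. -/
def IH (G : Type u) : Prop :=
  ∀ (H : Type u) [Group H] [Finite H], Nat.card H < Nat.card G → ∀ Y : Hyp H, Y.Good

namespace Hyp

variable (X : Hyp G)

theorem case_proper (ih : IH G) (h : normalClosure ({X.t} : Set G) ≠ ⊤) : X.Good := by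
  set K := normalClosure ({X.t} : Set G)
  haveI hKn : K.Normal := normalClosure_normal
  obtain ⟨hKM, ⟨i⟩⟩ := X.sub_apply ih K h X.N_le_normalClosure
  have hNK := X.N_le_normalClosure
  haveI : IsSimpleGroup X.N := simple_of_iso i
  have hN : X.N.Normal := by
    refine ⟨fun x hx g => ?_⟩
    set N' := X.N.map (MulAut.conj g).toMonoidHom with hN'
    have hN'K : N' ≤ K := fun y ⟨z, hz, hy⟩ => hy ▸ hKn.conj_mem z (hNK hz) g
    have hN'inv : ∀ k ∈ K, ∀ y ∈ N', k * y * k⁻¹ ∈ N' := by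
      intro k hk y hy
      rw [hN', mem_map_conj] at hy ⊢
      have hk' : g⁻¹ * k * g ∈ K := by simpa using hKn.conj_mem k hk g⁻¹
      have := conj_mem_of_mem_normalizer (hKM hk') hy
      rwa [show g⁻¹ * k * g * (g⁻¹ * y * g) * (g⁻¹ * k * g)⁻¹ = g⁻¹ * (k * y * k⁻¹) * g by group]
        at this
    let L := N'.subgroupOf X.N
    have hL : L.Normal := ⟨fun y hy n => mem_subgroupOf.2
      (by simpa using hN'inv n (hNK n.2) y (mem_subgroupOf.1 hy))⟩
    rcases IsSimpleGroup.eq_bot_or_eq_top_of_normal L hL with hb | ht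
    · exfalso
      have hdisj : ∀ y ∈ X.N, y ∈ N' → y = 1 := fun y hy hy' => by
        have : (⟨y, hy⟩ : X.N) ∈ L := mem_subgroupOf.2 hy'
        rw [hb, mem_bot] at this
        exact congrArg Subtype.val this
      set z := g * X.t * g⁻¹ with hz
      have hzN' : z ∈ N' := ⟨X.t, X.t_mem_N, rfl⟩
      have hc : z * X.t * z⁻¹ * X.t⁻¹ = 1 := by
        refine hdisj _ (mul_mem (conj_mem_of_mem_normalizer (hKM (hN'K hzN')) X.t_mem_N)
          (inv_mem X.t_mem_N)) ?_
        have := mul_mem hzN' (hN'inv X.t (hNK X.t_mem_N) z⁻¹ (inv_mem hzN'))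
        rwa [show z * (X.t * z⁻¹ * X.t⁻¹) = z * X.t * z⁻¹ * X.t⁻¹ by group] at this
      have hzt : z * X.t = X.t * z := mul_inv_eq_iff_eq_mul.1 (mul_inv_eq_one.1 hc)
      have := hdisj z (X.wcl_le_N X.t_mem_E X.t_ne (mem_wcl_of_conj ⟨g, hz⟩ hzt)) hzN'
      exact X.t_ne (conj_eq_one_iff.1 this)
    · have hle : X.N ≤ N' := subgroupOf_eq_top.1 ht
      have heq : X.N = N' := eq_of_le_of_card_ge hle
        (le_of_eq (card_map_of_injective (MulAut.conj g).injective))
      rw [heq]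
      exact ⟨x, hx, rfl⟩
  have hKN : K ≤ X.N := normalClosure_le_normal (Set.singleton_subset_iff.2 X.t_mem_N)
  exact ⟨⟨(MulEquiv.subgroupCongr (le_antisymm hKN hNK)).trans i⟩, hKN⟩

theorem oddCore_le_center (htop : normalClosure ({X.t} : Set G) = ⊤) (O : Subgroup G) [O.Normal]
    (hO : (Nat.card O).Coprime 2) : O ≤ center G := by
  intro o ho
  refine X.mem_center_of_comm htop fun g => ?_
  have h := X.odd_normal_comm hO (g⁻¹ * o * g) (by simpa using ‹O.Normal›.conj_mem o ho g⁻¹)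
  calc o * (g * X.t * g⁻¹) = g * (g⁻¹ * o * g * X.t) * g⁻¹ := by group
    _ = g * (X.t * (g⁻¹ * o * g)) * g⁻¹ := by rw [h]
    _ = g * X.t * g⁻¹ * o := by group

theorem center_eq_bot (ih : IH G) (htop : normalClosure ({X.t} : Set G) = ⊤) : center G = ⊥ := by
  by_contra hne
  obtain ⟨p, hp, hpZ⟩ := Nat.exists_prime_and_dvd
    (fun h : Nat.card (center G) = 1 => hne (card_eq_one.1 h))
  haveI := Fact.mk hp
  obtain ⟨z, hz⟩ := exists_prime_orderOf_dvd_card' (G := center G) p hpZ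
  rw [← orderOf_coe] at hz
  set C := zpowers (z : G)
  have hCZ : C ≤ center G := zpowers_le.2 z.2
  haveI : C.Normal := ⟨fun x hx g => by rwa [mem_center_iff.1 (hCZ hx) g, mul_inv_cancel_right]⟩
  have hCcard : Nat.card C = p := by rw [Nat.card_zpowers, hz]
  obtain ⟨Y, hY⟩ := X.quot_hyp C hCZ
  have hcard := C.card_mul_index
  have hlt : Nat.card (G ⧸ C) < Nat.card G := by
    rw [← index_eq_card, ← hcard, hCcard]
    exact lt_mul_left (Nat.pos_of_ne_zero C.index_ne_zero_of_finite) hp.one_lt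
  obtain ⟨⟨i⟩, -⟩ := ih (G ⧸ C) hlt Y
  have hYtop : normalClosure ({Y.t} : Set (G ⧸ C)) = ⊤ := by
    have := map_normalClosure ({X.t} : Set G) (QuotientGroup.mk' C) (QuotientGroup.mk'_surjective C)
    rw [htop, map_top_of_surjective _ (QuotientGroup.mk'_surjective C), Set.image_singleton] at this
    rw [hY, ← this]
  have hidx : C.index = 175560 := by
    rw [index_eq_card, ← card_top, ← hYtop, Nat.card_congr i.toEquiv, card_J1']
  rw [hidx, hCcard] at hcard
  have hzp : orderOf (z : G) = p := hz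
  have hzc : ∀ g : G, g * (z : G) = (z : G) * g := mem_center_iff.1 z.2
  -- a commutative Sylow subgroup containing `z`
  obtain ⟨P, hPc⟩ : ∃ P : Sylow p G, ∀ x ∈ (P : Subgroup G), ∀ y ∈ (P : Subgroup G),
      x * y = y * x := by
    rcases eq_or_ne p 2 with rfl | hp2
    · refine ⟨X.S, fun x hx y hy => ?_⟩
      have hzS : (z : G) ∈ (X.S : Subgroup G) := by
        obtain ⟨k, -, hk⟩ := conj_into_sylow ⊤ X.S le_top (zpowers (z : G))
          (IsPGroup.of_card (n := 1) (by rw [Nat.card_zpowers, hzp, pow_one])) le_top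
        have := hk _ (mem_zpowers _)
        rwa [hzc, mul_inv_cancel_right] at this
      let f : X.E × C → (X.S : Subgroup G) := fun q =>
        ⟨q.1 * q.2, mul_mem q.1.2.1 (zpowers_le.2 hzS q.2.2)⟩
      have hinj : Function.Injective f := by
        intro a b h
        have h1 : (a.1 : G) * a.2 = b.1 * b.2 := congrArg Subtype.val h
        have h2 : (b.1 : G)⁻¹ * a.1 = b.2 * (a.2 : G)⁻¹ := by
          calc (b.1 : G)⁻¹ * a.1 = (b.1 : G)⁻¹ * (a.1 * a.2) * (a.2 : G)⁻¹ := by group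
            _ = _ := by rw [h1]; group
        have h3 : (b.1 : G)⁻¹ * a.1 = 1 := X.center_inf_wcl
          (h2 ▸ mul_mem (hCZ b.2.2) (inv_mem (hCZ a.2.2)))
          (mul_mem (inv_mem b.1.2.2) a.1.2.2)
        rw [h3, eq_comm, mul_inv_eq_one] at h2
        exact Prod.ext (Subtype.ext (inv_mul_eq_one.1 h3).symm) (Subtype.ext h2.symm)
      have hS : Nat.card (X.S : Subgroup G) = 16 := by
        rw [X.S.card_eq_multiplicity, ← hcard,
          show 2 * 175560 = 2 ^ 4 * 21945 from rfl, Nat.factorization_mul (by norm_num) (by norm_num),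
          Finsupp.add_apply, Nat.prime_two.factorization_pow,
          Nat.factorization_eq_zero_of_not_dvd (show ¬(2 ∣ 21945) by norm_num)]
        simp
      have hb := hinj.bijective_of_nat_card_le
        (by rw [hS, Nat.card_prod, X.card_E, hCcard])
      obtain ⟨⟨a, c⟩, ha⟩ := hb.2 ⟨x, hx⟩
      have ha' : (a : G) * c = x := congrArg Subtype.val ha
      rw [← ha', mul_assoc, ← mem_center_iff.1 (hCZ c.2) y, ← mul_assoc, (X.S_comm hy a.2).symm,
        mul_assoc]
    · refine ⟨Classical.arbitrary _, fun x hx y hy => ?_⟩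
      set P : Sylow p G := Classical.arbitrary _
      obtain ⟨k, hk⟩ := IsPGroup.iff_card.1 P.2
      have hd : p ^ k ∣ p * 21945 := by
        have h : p ^ k ∣ 2 ^ 3 * (p * 21945) := by
          rw [show 2 ^ 3 * (p * 21945) = Nat.card G by omega, ← hk]
          exact card_subgroup_dvd_card _
        exact (Nat.Coprime.pow k 3 ((Nat.coprime_primes hp Nat.prime_two).2 hp2)).dvd_of_dvd_mul_left h
      have hk2 : k ≤ 2 := by
        by_contra hcon
        have := (pow_dvd_pow p (show 3 ≤ k by omega)).trans hd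
        rw [pow_succ', pow_two] at this
        exact not_sq_dvd hp (Nat.dvd_of_mul_dvd_mul_left hp.pos this)
      have hcomm : IsMulCommutative (P : Subgroup G) := by
        interval_cases k
        · haveI : Subsingleton (P : Subgroup G) := (Nat.card_eq_one_iff_unique.1 (by simpa using hk)).1
          exact ⟨⟨fun a b => Subsingleton.elim _ _⟩⟩
        · haveI := isCyclic_of_prime_card (show Nat.card (P : Subgroup G) = p by rw [hk, pow_one])
          exact IsCyclic.isMulCommutative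
        · exact IsPGroup.isMulCommutative_of_card_eq_prime_sq hk
      exact congrArg Subtype.val (hcomm.is_comm.comm ⟨x, hx⟩ ⟨y, hy⟩)
  letI : CommGroup (P : Subgroup G) :=
    { (inferInstance : Group (P : Subgroup G)) with
      mul_comm := fun a b => Subtype.ext (hPc a a.2 b b.2) }
  have hone := DFunLike.congr_fun
    (X.hom_eq_one htop (MonoidHom.transfer (MonoidHom.id (P : Subgroup G)))) (z : G)
  rw [MonoidHom.one_apply, MonoidHom.transfer_eq_pow (MonoidHom.id (P : Subgroup G)) (z : G)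
    fun k g₀ _ => by
      rw [mul_assoc, (show Commute ((z : G) ^ k) g₀ from
        ((show Commute g₀ (z : G) from hzc g₀).pow_right k).symm).eq, inv_mul_cancel_left]] at hone
  have hd := orderOf_dvd_of_pow_eq_one (congrArg Subtype.val hone)
  rw [hzp] at hd
  exact P.not_dvd_index hd

theorem case_simple (ih : IH G) (htop : normalClosure ({X.t} : Set G) = ⊤) : IsSimpleGroup G := by
  have hZ := X.center_eq_bot ih htop
  haveI : Nontrivial G := ⟨⟨X.t, 1, X.t_ne⟩⟩
  refine ⟨fun L hL => ?_⟩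
  haveI := hL
  by_cases htL : X.t ∈ L
  · exact Or.inr (top_le_iff.1 (htop ▸ normalClosure_le_normal (Set.singleton_subset_iff.2 htL)))
  refine Or.inl ?_
  set e := X.et
  -- `L` meets the weak closure trivially
  have hLW : ∀ w ∈ wcl X.t, w ∈ L → w = 1 := by
    intro w hw hwL
    by_contra hw1
    obtain ⟨m, rfl⟩ := e.exists_of_mem hw
    obtain ⟨a, ha, ha1⟩ : ∃ a ∈ e.V, a ≠ 1 := by
      refine e.V.bot_or_exists_ne_one.resolve_left fun h => ?_
      have := e.card_V
      rw [h, card_bot] at this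
      omega
    obtain ⟨q, hq, hqa⟩ := ha
    have hτ : tau ∉ L.comap e.φ := fun h => htL (e.map_tau ▸ h)
    have := normal_snd (L.comap e.φ) hτ (x := m) hwL (fun h => hw1 (by rw [h, map_one])) q.2
    rw [show ((1, q.2) : Model) = q from Prod.ext hq.1.symm rfl, mem_comap, hqa] at this
    obtain ⟨g, hg⟩ := X.all_conj (e.V_le (hqa ▸ mem_map_of_mem e.φ hq)) ha1
    rw [hg] at this
    have h2 := hL.conj_mem _ this g⁻¹
    rw [show g⁻¹ * (g * X.t * g⁻¹) * g⁻¹⁻¹ = X.t by group] at h2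
    exact htL h2
  set K := L ⊔ zpowers X.t
  have hLK : L ≤ K := le_sup_left
  have htK : X.t ∈ K := le_sup_right (a := L) (mem_zpowers X.t)
  have hiso : Cfsg.IsIsolatedInvolution (⟨X.t, htK⟩ : K) := by
    refine ⟨by rw [Subgroup.orderOf_mk]; exact X.ht, fun k hk => Subtype.ext ?_⟩
    show (k : G) * X.t * (k : G)⁻¹ = X.t
    obtain ⟨l, hl, r, hr, hlr⟩ : ∃ l ∈ L, ∃ r ∈ zpowers X.t, l * r = (k : G) := by
      have : (k : G) ∈ ((L ⊔ zpowers X.t : Subgroup G) : Set G) := k.2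
      rw [normal_mul] at this
      obtain ⟨l, hl, r, hr, h⟩ := this
      exact ⟨l, hl, r, hr, h⟩
    obtain ⟨j, rfl⟩ := mem_zpowers_iff.1 hr
    have hy : (k : G) * X.t * (k : G)⁻¹ = l * X.t * l⁻¹ := by rw [← hlr]; group
    have hmem : (k : G) * X.t * (k : G)⁻¹ ∈ wcl X.t :=
      mem_wcl_of_conj ⟨k, rfl⟩ (congrArg Subtype.val hk).symm
    refine mul_inv_eq_one.1 (hLW _ (mul_mem hmem (inv_mem (self_mem_wcl _))) ?_)
    rw [hy, show l * X.t * l⁻¹ * X.t⁻¹ = l * (X.t * l⁻¹ * X.t⁻¹) by group]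
    exact mul_mem hl (hL.conj_mem _ (inv_mem hl) _)
  -- `t` centralises `L`
  have hcent : ∀ l ∈ L, l * X.t = X.t * l := by
    intro l hl
    have hz := H85.zStar hiso ⟨l, hLK hl⟩
    let T := (Cfsg.pPrimeCore 2 K).map K.subtype ⊓ L
    have hTcop : (Nat.card T).Coprime 2 := by
      refine (H1.card_pPrimeCore_coprime 2 K).coprime_dvd_left ?_
      rw [Nat.card_congr ((Cfsg.pPrimeCore 2 K).equivMapOfInjective K.subtype
        K.subtype_injective).toEquiv]
      exact card_dvd_of_le inf_le_left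
    have hTn : (T.subgroupOf L).Normal := ⟨fun x hx y => mem_subgroupOf.2 (by
      obtain ⟨⟨o, ho, hox⟩, hxL⟩ := mem_subgroupOf.1 hx
      refine ⟨⟨⟨(y : G), hLK y.2⟩ * o * ⟨(y : G), hLK y.2⟩⁻¹,
        (H1.pPrimeCore_normal' 2 K).conj_mem o ho _, ?_⟩, (y * x * y⁻¹).2⟩
      show (y : G) * (o : G) * (y : G)⁻¹ = (y : G) * (x : G) * (y : G)⁻¹
      rw [show (o : G) = (x : G) from hox])⟩
    haveI := hTn
    have hTO : T.subgroupOf L ≤ Cfsg.pPrimeCore 2 L := H1.le_pPrimeCore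
      (by rw [Nat.card_congr (subgroupOfEquivOfLe (inf_le_right : T ≤ L)).toEquiv]; exact hTcop)
    have hmem : X.t * l * X.t⁻¹ * l⁻¹ ∈ T :=
      ⟨⟨_, hz, rfl⟩, L.mul_mem (hL.conj_mem l hl _) (inv_mem hl)⟩
    have h2 := mem_map_of_mem L.subtype (hTO (x := ⟨_, hmem.2⟩) (mem_subgroupOf.2 hmem))
    rw [H1.pPrimeCore_subgroup_map_eq] at h2
    haveI := H1.pPrimeCore_normal' 2 G
    have h3 := X.oddCore_le_center htop _ (H1.card_pPrimeCore_coprime 2 G) h2.1
    rw [hZ, mem_bot] at h3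
    exact (mul_inv_eq_iff_eq_mul.1 (mul_inv_eq_one.1 h3)).symm
  refine le_bot_iff.1 (hZ ▸ fun l hl => X.mem_center_of_comm htop fun g => ?_)
  have h := hcent (g⁻¹ * l * g) (by simpa using hL.conj_mem l hl g⁻¹)
  calc l * (g * X.t * g⁻¹) = g * (g⁻¹ * l * g * X.t) * g⁻¹ := by group
    _ = g * (X.t * (g⁻¹ * l * g)) * g⁻¹ := by rw [h]
    _ = g * X.t * g⁻¹ * l := by group

theorem centralizer_E (hSE : ∀ x ∈ (X.S : Subgroup G), x ∈ X.E) {z : G}
    (hz : ∀ x ∈ X.E, z * x = x * z) : ∃ e ∈ X.E, e * z ∈ centralizer (X.N : Set G) := by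
  haveI : Fact (Nat.Prime 2) := ⟨Nat.prime_two⟩
  obtain ⟨k, m, hm, hn⟩ := Nat.exists_eq_two_pow_mul_odd (orderOf_pos z).ne'
  set u := z ^ m with hu
  have hu2 : u ^ 2 ^ k = 1 := by rw [hu, ← pow_mul, mul_comm, ← hn, pow_orderOf_eq_one]
  have hQ : IsPGroup 2 (zpowers u ⊔ X.E : Subgroup G) := by
    refine IsPGroup.to_sup_of_normal_right' ?_ (X.S.2.to_le inf_le_left) ?_
    · obtain ⟨j, -, hj⟩ := (Nat.dvd_prime_pow Nat.prime_two).1 (orderOf_dvd_of_pow_eq_one hu2)
      exact IsPGroup.of_card (n := j) (by rw [Nat.card_zpowers, hj])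
    · rw [zpowers_le]
      refine mem_normalizer_of_forall fun x hx => ?_
      rwa [((show Commute z x from hz x hx).pow_left m).eq, mul_inv_cancel_right]
  obtain ⟨R, hR⟩ := hQ.exists_le_sylow
  have hRcard : Nat.card R = Nat.card (X.S : Subgroup G) := by
    rw [R.card_eq_multiplicity, X.S.card_eq_multiplicity]
  have heq : X.E = zpowers u ⊔ X.E := eq_of_le_of_card_ge le_sup_right
    ((card_le_of_le hR).trans (hRcard.le.trans (card_le_of_le hSE)))
  have huE : u ∈ X.E := heq.symm ▸ (le_sup_left : zpowers u ≤ zpowers u ⊔ X.E) (mem_zpowers u)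
  refine ⟨u, huE, ?_⟩
  have hz2 : z * z ∈ centralizer (X.N : Set G) := by
    refine X.odd_comm_N (fun x hx => ?_) (Odd.of_dvd_nat hm ?_)
    · rw [mul_assoc, hz x hx, ← mul_assoc, hz x hx, mul_assoc]
    · refine orderOf_dvd_of_pow_eq_one ?_
      rw [← pow_two, ← pow_mul, mul_comm, pow_mul, ← hu, pow_two, X.et.sq huE]
  obtain ⟨j, hj⟩ := hm
  rw [hu, ← pow_succ, show m + 1 = 2 * (j + 1) by omega, pow_mul, pow_two]
  exact pow_mem hz2 _

theorem case_full (ih : IH G) (htop : normalClosure ({X.t} : Set G) = ⊤) (hM : X.M0 = ⊤) :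
    X.Good := by
  haveI := X.case_simple ih htop
  have hZ := X.center_eq_bot ih htop
  haveI hNn : X.N.Normal := normalizer_eq_top_iff.1 hM
  have hNtop : X.N = ⊤ :=
    top_le_iff.1 (htop ▸ normalClosure_le_normal (Set.singleton_subset_iff.2 X.t_mem_N))
  have hCN : ∀ c ∈ centralizer (X.N : Set G), c = 1 := fun c hc => by
    have : c ∈ center G := mem_center_iff.2 fun g => (X.comm_of_mem hc (hNtop ▸ mem_top g)).symm
    rwa [hZ, mem_bot] at this
  have hSE : ∀ x ∈ (X.S : Subgroup G), x ∈ X.E := fun x hx => by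
    obtain ⟨e, he, hex⟩ := X.split hx
    rw [eq_inv_of_mul_eq_one_right (hCN _ hex)]
    exact inv_mem he
  have hC : centralizer ({X.t} : Set G) = wcl X.t := by
    refine le_antisymm (fun c hc => ?_) (wcl_le_centralizer _)
    obtain ⟨w, hw, z, hz, rfl⟩ := X.exists_decomp (mem_centralizer_singleton_iff.1 hc)
    obtain ⟨e, he, hez⟩ := X.centralizer_E hSE hz
    rw [eq_inv_of_mul_eq_one_right (hCN _ hez)]
    exact mul_mem hw (inv_mem he.2)
  obtain ⟨i⟩ := X.iso
  obtain ⟨j⟩ := iso_J1 X.t ⟨X.ht, X.S, X.htS, X.htc⟩ ((MulEquiv.subgroupCongr hC).trans i)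
  exact ⟨⟨((MulEquiv.subgroupCongr htop).trans Subgroup.topEquiv).trans j⟩, hNtop ▸ le_top⟩

theorem invol_centralizer_le (ih : IH G) (hZ : center G = ⊥) {u : G}
    (hu : u ∈ (X.S : Subgroup G)) (hu1 : u ≠ 1) (huu : u * u = 1) {g : G} (hg : g * u = u * g) :
    g ∈ X.M0 := by
  haveI : Fact (Nat.Prime 2) := ⟨Nat.prime_two⟩
  obtain ⟨v, hv, hr⟩ := X.split hu
  set H := centralizer ({u} : Set G)
  have hgH : g ∈ H := mem_centralizer_singleton_iff.2 hg
  by_cases hv1 : v = 1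
  · rw [hv1, one_mul] at hr
    have hH : H ≠ ⊤ := fun h => hu1 (by
      have : u ∈ center G := mem_center_iff.2 fun x =>
        mem_centralizer_singleton_iff.1 (h ▸ mem_top x : x ∈ H)
      rwa [hZ, mem_bot] at this)
    exact (X.sub_apply ih H hH fun x hx =>
      mem_centralizer_singleton_iff.2 (X.comm_of_mem hr hx).symm).1 hgH
  set e := X.emb hv hv1
  set r := v * u with hrdef
  have hur : u = v * r := by rw [hrdef, ← mul_assoc, e.sq hv, one_mul]
  have hEu : ∀ x ∈ X.E, x * u = u * x := fun x hx => (X.S_comm hu hx).symm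
  have hvH : v ∈ H := mem_centralizer_singleton_iff.2 (hEu v hv)
  have hiso : Cfsg.IsIsolatedInvolution (⟨v, hvH⟩ : H) := by
    refine ⟨by rw [Subgroup.orderOf_mk]; exact e.orderOf_eq, fun h hc => Subtype.ext ?_⟩
    show (h : G) * v * (h : G)⁻¹ = v
    set y := (h : G) * v * (h : G)⁻¹ with hy
    have hyv : y * v = v * y := (congrArg Subtype.val hc).symm
    have hyy : y * y = 1 := by rw [hy, conj_mul, e.sq hv, mul_one, mul_inv_cancel]
    obtain ⟨w, hw, hwE⟩ := e.invol_conj (mem_wcl_of_conj ⟨h, hy⟩ hyv) hyy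
    set s := w * y * w⁻¹ with hs
    have hwu : w * u = u * w := by
      rw [hur]
      exact ((show Commute w v from wcl_comm hw).mul_right
        (show Commute r w from X.comm_of_mem hr (X.wcl_le_N hv hv1 hw)).symm).eq
    have hh : (h : G) * u = u * h := mem_centralizer_singleton_iff.1 h.2
    have hsM : w * h * v * (w * h)⁻¹ = s := by rw [hs, hy]; group
    have hwh := X.unique_point hv hv1 (g := w * h)
      (hsM ▸ X.N_le_M0 (X.E_le_N hwE))
    have hfix : w * h * u * (w * h)⁻¹ = u := by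
      rw [mul_assoc w, hh, ← mul_assoc, hwu]
      group
    have hr' : w * h * r * (w * h)⁻¹ ∈ centralizer (X.N : Set G) := by
      refine X.comm_N fun a ha ha1 b hb => ?_
      have hbN := X.wcl_le_N ha ha1 hb
      have hb' := conj_mem_of_mem_normalizer (inv_mem hwh : (w * h)⁻¹ ∈ X.M0) hbN
      rw [inv_inv] at hb'
      calc w * h * r * (w * h)⁻¹ * b = w * h * (r * ((w * h)⁻¹ * b * (w * h))) * (w * h)⁻¹ := by
            group
        _ = w * h * ((w * h)⁻¹ * b * (w * h) * r) * (w * h)⁻¹ := by rw [X.comm_of_mem hr hb']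
        _ = b * (w * h * r * (w * h)⁻¹) := by group
    have hprod : s⁻¹ * v = w * h * r * (w * h)⁻¹ * r⁻¹ := by
      have h1 : v * r = s * (w * h * r * (w * h)⁻¹) := by
        rw [← hur, ← hsM]
        conv_lhs => rw [← hfix, hur]
        group
      calc s⁻¹ * v = s⁻¹ * (v * r) * r⁻¹ := by group
        _ = _ := by rw [h1]; group
    have hsv := X.E_inf_centralizer (mul_mem (inv_mem hwE) hv)
      (hprod ▸ mul_mem hr' (inv_mem hr))
    rw [inv_mul_eq_one] at hsv
    calc y = w⁻¹ * (w * y * w⁻¹) * w := by group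
      _ = w⁻¹ * v * w := by rw [← hs, hsv]
      _ = v := by rw [mul_assoc, ← wcl_comm hw, inv_mul_cancel_left]
  -- the odd core of the centraliser lies in `M0`
  let O := (Cfsg.pPrimeCore 2 H).map H.subtype
  have hOM : O ≤ X.M0 := by
    haveI : IsMulCommutative X.E := ⟨⟨fun a b => Subtype.ext (X.et.comm a.2 b.2)⟩⟩
    refine H79.le_of_centralizers_le (A := X.E) (p := 2)
      (fun a ha => by rw [pow_two]; exact X.et.sq ha) ?_ ?_ ?_ ?_
    · intro hcyc
      obtain ⟨a, ha⟩ := hcyc.exists_generator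
      have h8 : orderOf a = 8 := by rw [orderOf_eq_card_of_forall_mem_zpowers ha, X.card_E]
      have : orderOf a ∣ 2 := orderOf_dvd_of_pow_eq_one
        (Subtype.ext (by rw [pow_two]; exact X.et.sq a.2))
      rw [h8] at this
      norm_num at this
    · intro a ha
      refine mem_normalizer_of_forall ?_
      rintro _ ⟨x, hx, rfl⟩
      exact ⟨⟨a, mem_centralizer_singleton_iff.2 (hEu a ha)⟩ * x * _,
        (H1.pPrimeCore_normal' 2 H).conj_mem x hx _, rfl⟩
    · rw [← Nat.card_congr ((Cfsg.pPrimeCore 2 H).equivMapOfInjective H.subtype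
        H.subtype_injective).toEquiv]
      exact H1.card_pPrimeCore_coprime 2 H
    · exact fun a ha ha1 x hx => X.centralizer_le_M0 ha ha1 (mem_centralizer_singleton_iff.1 hx.2)
  refine X.unique_point hv hv1 ?_
  have hz := hOM ⟨_, H85.zStar hiso ⟨g, hgH⟩, rfl⟩
  have := mul_mem (inv_mem hz) (X.N_le_M0 (X.E_le_N hv))
  rwa [show ((H.subtype _))⁻¹ * v = g * v * g⁻¹ from (show
    (v * g * v⁻¹ * g⁻¹)⁻¹ * v = g * v * g⁻¹ by group)] at this

theorem case_se (ih : IH G) (htop : normalClosure ({X.t} : Set G) = ⊤) (hM : X.M0 ≠ ⊤) :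
    False := by
  haveI : Fact (Nat.Prime 2) := ⟨Nat.prime_two⟩
  have hZ := X.center_eq_bot ih htop
  have htM : X.t ∈ X.M0 := X.N_le_M0 X.t_mem_N
  have hse : Cfsg.IsStronglyEmbedded X.M0 := by
    refine (H65.se_iff hM (H65.even_card_of_mem htM X.ht)).2 fun u g hu huM hgu => ?_
    have huu : u * u = 1 := by rw [← pow_two, ← hu, pow_orderOf_eq_one]
    have hu1 : u ≠ 1 := fun h => by rw [h, orderOf_one] at hu; norm_num at hu
    have hu'u : g⁻¹ * u * g * (g⁻¹ * u * g) = 1 := by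
      calc g⁻¹ * u * g * (g⁻¹ * u * g) = g⁻¹ * (u * u) * g := by group
        _ = 1 := by rw [huu]; group
    obtain ⟨m, hm, hmS⟩ := X.invol_into_S hgu hu'u
    have hc := X.htc _ hmS
    set t₁ := g * m⁻¹ * X.t * (g * m⁻¹)⁻¹ with ht₁
    have hcomm : t₁ * u = u * t₁ := by
      calc t₁ * u = g * m⁻¹ * (X.t * (m * (g⁻¹ * u * g) * m⁻¹)) * (g * m⁻¹)⁻¹ := by
            rw [ht₁]; group
        _ = g * m⁻¹ * ((m * (g⁻¹ * u * g) * m⁻¹) * X.t) * (g * m⁻¹)⁻¹ := by rw [hc]
        _ = u * t₁ := by rw [ht₁]; group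
    obtain ⟨k, hk, hkS⟩ := X.invol_into_S huM huu
    have hmem : k * t₁ * k⁻¹ ∈ X.M0 := by
      refine X.invol_centralizer_le ih hZ hkS (fun h => hu1 (conj_eq_one_iff.1 h)) ?_ ?_
      · rw [conj_mul, huu, mul_one, mul_inv_cancel]
      · calc k * t₁ * k⁻¹ * (k * u * k⁻¹) = k * (t₁ * u) * k⁻¹ := by group
          _ = k * (u * t₁) * k⁻¹ := by rw [hcomm]
          _ = k * u * k⁻¹ * (k * t₁ * k⁻¹) := by group
    have ht1M : t₁ ∈ X.M0 := by
      have := mul_mem (mul_mem (inv_mem hk) hmem) hk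
      rwa [show k⁻¹ * (k * t₁ * k⁻¹) * k = t₁ by group] at this
    have := mul_mem (X.unique_point X.t_mem_E X.t_ne ht1M) hm
    rwa [inv_mul_cancel_right] at this
  obtain ⟨-, ⟨i⟩⟩ := X.sub_apply ih X.M0 hM X.N_le_M0
  -- `S = E`
  have hSE : ∀ x ∈ (X.S : Subgroup G), x ∈ X.E := fun x hx => by
    obtain ⟨e, he, hex⟩ := X.split hx
    by_cases h : e * x = 1
    · rw [eq_inv_of_mul_eq_one_right h]
      exact inv_mem he
    exfalso
    set r : (X.S : Subgroup G) := ⟨e * x, mul_mem he.1 hx⟩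
    obtain ⟨j, hj⟩ := IsPGroup.iff_orderOf.1 X.S.2 r
    have hj0 : j ≠ 0 := fun h0 => h (congrArg Subtype.val (orderOf_eq_one_iff.1 (by
      rw [hj, h0, pow_zero])))
    set r' := (e * x) ^ 2 ^ (j - 1) with hr'
    have ho : orderOf r' = 2 := by
      have hr : orderOf (e * x) = 2 ^ j := by rw [← hj, ← orderOf_coe]
      rw [hr', orderOf_pow_of_dvd (by positivity) (hr ▸ pow_dvd_pow 2 (Nat.sub_le j 1)), hr,
        Nat.pow_div (Nat.sub_le j 1) (by norm_num), show j - (j - 1) = 1 by omega, pow_one]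
    obtain ⟨g, hg⟩ := isConj_iff.1 (H67.se_isConj hse X.ht ho)
    have hrS : r' ∈ (X.S : Subgroup G) := pow_mem r.2 _
    have := X.E_inf_centralizer (X.mem_E_of_conj hrS ⟨g, hg.symm⟩) (pow_mem hex _)
    rw [this, orderOf_one] at ho
    norm_num at ho
  -- every element of `M0` acts on `N` as an element of `N`
  have hfact : ∀ d : X.M0, ∃ n : X.N, (n : G)⁻¹ * d ∈ centralizer (X.N : Set G) := by
    rintro ⟨d, hd⟩
    have hdt : d * X.t * d⁻¹ ∈ X.N := conj_mem_of_mem_normalizer hd X.t_mem_N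
    obtain ⟨n, hn⟩ := isConj_of_iso i (x := ⟨X.t, X.t_mem_N⟩) (y := ⟨_, hdt⟩)
      (by rw [Subgroup.orderOf_mk]; exact X.ht)
      (by rw [Subgroup.orderOf_mk]; exact H67.invol_conj X.ht d)
    have hn' : (n : G) * X.t * (n : G)⁻¹ = d * X.t * d⁻¹ := congrArg Subtype.val hn
    have hc : (n : G)⁻¹ * d * X.t = X.t * ((n : G)⁻¹ * d) := by
      calc (n : G)⁻¹ * d * X.t = (n : G)⁻¹ * (d * X.t * d⁻¹) * d := by group
        _ = X.t * ((n : G)⁻¹ * d) := by rw [← hn']; group
    obtain ⟨w, hw, z, hz, hwz⟩ := X.exists_decomp hc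
    obtain ⟨e, he, hez⟩ := X.centralizer_E hSE hz
    refine ⟨n * ⟨w, X.wcl_le_N X.t_mem_E X.t_ne hw⟩ * ⟨e, X.E_le_N he⟩⁻¹, ?_⟩
    show ((n : G) * w * e⁻¹)⁻¹ * d ∈ _
    rwa [show ((n : G) * w * e⁻¹)⁻¹ * d = e * (w⁻¹ * ((n : G)⁻¹ * d)) by group, hwz,
      inv_mul_cancel_left]
  have huniq : ∀ {d : G} {n n' : X.N}, (n : G)⁻¹ * d ∈ centralizer (X.N : Set G) →
      (n' : G)⁻¹ * d ∈ centralizer (X.N : Set G) → n = n' := by
    intro d n n' h h'
    have h2 := mul_mem h (inv_mem h')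
    rw [show (n : G)⁻¹ * d * ((n' : G)⁻¹ * d)⁻¹ = (n : G)⁻¹ * n' by group] at h2
    have h3 : n⁻¹ * n' ∈ center X.N :=
      mem_center_iff.2 fun y => Subtype.ext (X.comm_of_mem h2 y.2).symm
    rw [center_eq_bot_of_iso i, mem_bot, inv_mul_eq_one] at h3
    exact h3
  choose f hf using hfact
  have hmul : ∀ a b : X.M0, f (a * b) = f a * f b := by
    intro a b
    refine huniq (hf (a * b)) ?_
    have h := mul_mem (hf a) (hf b)
    rwa [show ((f a * f b : X.N) : G)⁻¹ * ((a * b : X.M0) : G) =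
      (f a : G)⁻¹ * a * ((f b : G)⁻¹ * b) by
        show ((f a : G) * f b)⁻¹ * ((a : G) * b) = _
        have hcm := X.comm_of_mem (hf a) (inv_mem (f b).2)
        rw [mul_inv_rev, mul_assoc (f b : G)⁻¹, ← mul_assoc (f a : G)⁻¹, ← mul_assoc, ← hcm,
          mul_assoc]]
  let F : X.M0 →* X.N := MonoidHom.mk' f hmul
  obtain ⟨u, hu, huM⟩ := H67.se_exists_invol_not_mem hse
  let D0 := X.M0 ⊓ X.M0.map (MulAut.conj u).toMonoidHom
  let D := (D0.subgroupOf X.M0).map (i.toMonoidHom.comp F)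
  have hodd : Odd (Nat.card D) := by
    refine Odd.of_dvd_nat (hse.2.2 u huM) ?_
    rw [← Nat.card_congr (subgroupOfEquivOfLe (inf_le_left : D0 ≤ X.M0)).toEquiv]
    exact card_map_dvd _ _
  refine no_odd_transitive D hodd (a := i ⟨X.t, X.t_mem_N⟩) ?_ fun b hb => ?_
  · rw [MulEquiv.orderOf_eq, Subgroup.orderOf_mk]
    exact X.ht
  · obtain ⟨s, rfl⟩ := i.surjective b
    rw [MulEquiv.orderOf_eq, ← orderOf_coe] at hb
    obtain ⟨d, hd, hud, -, hds⟩ :=
      H67.exists_inverted_conj hse hu huM X.ht htM hb (X.N_le_M0 s.2)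
    refine ⟨i (f ⟨d, hd⟩), ⟨⟨d, hd⟩, mem_subgroupOf.2 (H65.mem_inf_conj.2 ⟨hd, hud⟩), rfl⟩, ?_⟩
    rw [← map_inv, ← map_mul, ← map_mul]
    refine congrArg i (Subtype.ext ?_)
    show (f ⟨d, hd⟩ : G) * X.t * (f ⟨d, hd⟩ : G)⁻¹ = (s : G)
    have hc := X.comm_of_mem (hf ⟨d, hd⟩) X.t_mem_N
    set n := (f ⟨d, hd⟩ : G)
    calc n * X.t * n⁻¹ = n * (X.t * (n⁻¹ * d)) * d⁻¹ := by group
      _ = n * (n⁻¹ * d * X.t) * d⁻¹ := by rw [← hc]
      _ = d * X.t * d⁻¹ := by group
      _ = _ := hds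

end Hyp

theorem engine : ∀ (n : ℕ) (G : Type u) [Group G] [Finite G], Nat.card G = n →
    ∀ X : Hyp G, X.Good := by
  intro n
  induction n using Nat.strong_induction_on with
  | _ n IHn =>
    intro G _ _ hn X
    have ih : IH G := fun H _ _ hlt Y => IHn _ (hn ▸ hlt) H rfl Y
    by_cases htop : normalClosure ({X.t} : Set G) = ⊤
    · by_cases hM : X.M0 = ⊤
      · exact X.case_full ih htop hM
      · exact (X.case_se ih htop hM).elim
    · exact X.case_proper ih htop

end H58.WJ1
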