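import Cfsg.Agent.H58.WeakJ1.Basic

/-!
All involutions of `E` are conjugate to `t`.
-/

set_option autoImplicit false

namespace H58.WJ1

open Subgroup H16.J1

universe u

variable {G : Type u} [Group G]

/-- The number of conjugates of `t` under a subgroup `K`. -/
theorem card_conj_orbit (K : Subgroup G) (t : G) :
    Nat.card {x : G // ∃ k ∈ K, x = k * t * k⁻¹} = (centralizer ({t} : Set G)).relIndex K := by
  have key : ∀ a b : K, ((a : G) * t * (a : G)⁻¹ = (b : G) * t * (b : G)⁻¹ ↔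
      (a⁻¹ * b : K) ∈ (centralizer ({t} : Set G)).subgroupOf K) := by
    intro a b
    rw [mem_subgroupOf, mem_centralizer_singleton_iff, coe_mul, coe_inv]
    constructor
    · intro h
      calc (a : G)⁻¹ * b * t = (a : G)⁻¹ * ((b : G) * t * (b : G)⁻¹) * b := by group
        _ = (a : G)⁻¹ * ((a : G) * t * (a : G)⁻¹) * b := by rw [h]
        _ = t * ((a : G)⁻¹ * b) := by group
    · intro h
      calc (a : G) * t * (a : G)⁻¹ = (a : G) * (t * ((a : G)⁻¹ * b)) * (b : G)⁻¹ := by group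
        _ = (a : G) * ((a : G)⁻¹ * b * t) * (b : G)⁻¹ := by rw [h]
        _ = (b : G) * t * (b : G)⁻¹ := by group
  refine Nat.card_congr (Equiv.ofBijective
    (Quotient.lift (fun k : K => (⟨(k : G) * t * (k : G)⁻¹, k, k.2, rfl⟩ :
      {x : G // ∃ k ∈ K, x = k * t * k⁻¹}))
      (fun a b h => Subtype.ext ((key a b).2 (QuotientGroup.leftRel_apply.1 h))))
    ⟨?_, ?_⟩).symm
  · rintro ⟨a⟩ ⟨b⟩ h
    exact Quotient.sound (QuotientGroup.leftRel_apply.2 ((key a b).1 (congrArg Subtype.val h)))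
  · rintro ⟨x, k, hk, rfl⟩
    exact ⟨Quotient.mk _ ⟨k, hk⟩, rfl⟩

namespace Hyp

variable (X : Hyp G)

/-- The conjugates of `t` inside `E`. -/
def Om : Set G := {x | x ∈ X.E ∧ ∃ g : G, x = g * X.t * g⁻¹}

theorem t_mem_Om : X.t ∈ X.Om := ⟨X.t_mem_E, 1, by simp⟩

theorem Om_ne_one {x : G} (hx : x ∈ X.Om) : x ≠ 1 := by
  obtain ⟨-, g, rfl⟩ := hx
  intro h
  apply X.t_ne
  calc X.t = g⁻¹ * (g * X.t * g⁻¹) * g := by group
    _ = 1 := by rw [h]; group

theorem Om_inv {k x : G} (hk : k ∈ normalizer (X.E : Set G)) (hx : x ∈ X.Om) :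
    k * x * k⁻¹ ∈ X.Om := by
  obtain ⟨hxE, g, rfl⟩ := hx
  exact ⟨conj_mem_of_mem_normalizer hk hxE, k * g, by group⟩

variable [Finite G]

theorem exists_Om_ne : ∃ x ∈ X.Om, x ≠ X.t := by
  by_contra h
  push Not at h
  have hle : wcl X.t ≤ zpowers X.t := by
    refine (closure_le _).2 ?_
    rintro x ⟨g, hg, hc⟩
    obtain ⟨w, hw, hwx⟩ := X.et.invol_conj (mem_wcl_of_conj ⟨g, hg⟩ hc) (X.conj_sq ⟨g, hg⟩)
    have h1 := h _ ⟨hwx, w * g, by rw [hg]; group⟩
    have e : x = X.t := by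
      calc x = w⁻¹ * (w * x * w⁻¹) * w := by group
        _ = w⁻¹ * (w * X.t) := by rw [h1, mul_assoc, ← wcl_comm hw]
        _ = X.t := inv_mul_cancel_left _ _
    rw [e]
    exact mem_zpowers _
  have h8 : Nat.card X.E ≤ Nat.card (zpowers X.t) :=
    card_le_of_le ((inf_le_right : X.E ≤ wcl X.t).trans hle)
  rw [X.card_E, Nat.card_zpowers, X.ht] at h8
  omega

theorem E_le_closure_Om : X.E ≤ closure X.Om := by
  obtain ⟨x, hx, hxt⟩ := X.exists_Om_ne
  set e := X.et
  have ht := subset_closure (X.t_mem_Om)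
  have hO : ∀ y ∈ X.Om, e.h * y * e.h⁻¹ ∈ X.Om := fun y hy => X.Om_inv e.h_normalizer hy
  have hV : ∀ v ∈ e.V, v ∈ closure X.Om := by
    intro v hv
    by_cases hv1 : v = 1
    · rw [hv1]; exact one_mem _
    rcases e.cases hx.1 with hxV | hxV
    · exact subset_closure ((e.class_mem hO hxV (X.Om_ne_one hx) hv hv1).1 hx)
    · have h1 : X.t * (X.t * x) = x := by rw [← mul_assoc, X.tt, one_mul]
      have hne : X.t * x ≠ 1 := fun h => hxt (by rw [← h1, h, mul_one])
      have h2 := subset_closure ((e.class_mem hO hxV hne hv hv1).2 (by rwa [h1]))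
      have := mul_mem ht h2
      rwa [← mul_assoc, X.tt, one_mul] at this
  intro y hy
  rcases e.cases hy with h | h
  · exact hV _ h
  · have := mul_mem ht (hV _ h)
    rwa [← mul_assoc, X.tt, one_mul] at this

theorem emb_of_Om {s : G} (hs : s ∈ X.Om) : Nonempty (Emb X.E s) := by
  obtain ⟨hsE, g, rfl⟩ := hs
  refine exists_emb ((MulAut.conj g).toMonoidHom.comp X.et.φ)
    ((MulAut.conj g).injective.comp X.et.inj) ?_ ?_ ?_ X.card_E
  · rw [MonoidHom.range_comp, X.et.range_eq, wcl_conj]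
  · show g * X.et.φ tau * g⁻¹ = g * X.t * g⁻¹
    rw [X.et.map_tau]
  · refine X.E_le_closure_Om.trans ((closure_le _).2 ?_)
    rintro y ⟨hy, k, hk⟩
    exact mem_wcl_of_conj ⟨k * g⁻¹, by rw [hk]; group⟩ (X.et.comm hy hsE)

theorem odd_relIndex {K : Subgroup G} (hSK : (X.S : Subgroup G) ≤ K) :
    ¬ 2 ∣ (centralizer ({X.t} : Set G)).relIndex K := by
  haveI : Fact (Nat.Prime 2) := ⟨Nat.prime_two⟩
  intro h
  have hS : (X.S : Subgroup G) ≤ centralizer ({X.t} : Set G) ⊓ K :=
    le_inf (fun x hx => mem_centralizer_singleton_iff.2 (X.htc x hx)) hSK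
  have h1 := relIndex_mul_relIndex _ _ K hS inf_le_right
  rw [inf_relIndex_right] at h1
  exact X.S.not_dvd_index (h.trans ((Dvd.intro_left _ h1).trans
    (relIndex_dvd_index_of_le hSK)))

omit [Finite G] in
theorem S_le_normalizer : (X.S : Subgroup G) ≤ normalizer (X.E : Set G) := by
  intro s hs
  refine mem_normalizer_iff.2 fun x => ⟨fun hx => ?_, fun hx => ?_⟩
  · exact ⟨(X.S : Subgroup G).mul_mem ((X.S : Subgroup G).mul_mem hs hx.1) (inv_mem hs), wcl_invariant (X.htc s hs) hx.2⟩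
  · have h := wcl_invariant (c := s⁻¹) (X.htc _ (inv_mem hs)) hx.2
    have h' := (X.S : Subgroup G).mul_mem ((X.S : Subgroup G).mul_mem (inv_mem hs) hx.1) hs
    rw [show s⁻¹ * (s * x * s⁻¹) * s⁻¹⁻¹ = x by group] at h
    rw [show s⁻¹ * (s * x * s⁻¹) * s = x by group] at h'
    exact ⟨h', h⟩

/-- All involutions of `E` are conjugate to `t`. -/
theorem all_conj {x : G} (hx : x ∈ X.E) (hx1 : x ≠ 1) : ∃ g : G, x = g * X.t * g⁻¹ := by
  by_contra hno
  have hxO : x ∉ X.Om := fun h => hno h.2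
  have hxt : x ≠ X.t := fun h => hxO (h ▸ X.t_mem_Om)
  set e := X.et
  set t := X.t
  have hO : ∀ y ∈ X.Om, e.h * y * e.h⁻¹ ∈ X.Om := fun y hy => X.Om_inv e.h_normalizer hy
  have htt : ∀ y, t * (t * y) = y := fun y => by rw [← mul_assoc, X.tt, one_mul]
  obtain ⟨a, ha, hat⟩ := X.exists_Om_ne
  have ha1 := X.Om_ne_one ha
  have htne : ∀ {y}, y ≠ t → t * y ≠ 1 := fun {y} hy h => hy (by rw [← htt y, h, mul_one])
  obtain ⟨ea⟩ := X.emb_of_Om ha
  have hOa : ∀ y ∈ X.Om, ea.h * y * ea.h⁻¹ ∈ X.Om := fun y hy => X.Om_inv ea.h_normalizer hy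
  set y := ea.h * t * ea.h⁻¹ with hy
  have hyO : y ∈ X.Om := hOa _ X.t_mem_Om
  have hyt : y ≠ t := ea.h_moves X.t_mem_E X.t_ne (Ne.symm hat)
  have hy1 := X.Om_ne_one hyO
  rcases e.cases hx with hxV | hxV
  · -- the class of `V` is missing
    have hOV : ∀ z ∈ X.Om, z ≠ t → t * z ∈ e.V := by
      intro z hz hzt
      rcases e.cases hz.1 with h | h
      · exact absurd ((e.class_mem hO h (X.Om_ne_one hz) hxV hx1).1 hz) hxO
      · exact h
    have htV : ∀ v ∈ e.V, v ≠ 1 → t * v ∈ X.Om := fun v hv hv1 =>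
      (e.class_mem hO (hOV a ha hat) (htne hat) hv hv1).2 (by rwa [htt])
    have hset : ∀ z, (∃ k ∈ normalizer (X.E : Set G), z = k * t * k⁻¹) ↔
        ∃ v ∈ e.V, t * v = z := by
      intro z
      constructor
      · rintro ⟨k, hk, rfl⟩
        have hz := X.Om_inv hk X.t_mem_Om
        by_cases hzt : k * t * k⁻¹ = t
        · exact ⟨1, one_mem _, by rw [mul_one, hzt]⟩
        · exact ⟨_, hOV _ hz hzt, htt _⟩
      · rintro ⟨v, hv, rfl⟩
        by_cases hv1 : v = 1
        · exact ⟨1, one_mem _, by simp [hv1]⟩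
        let O : Set G := {z | ∃ k ∈ normalizer (X.E : Set G), z = k * t * k⁻¹}
        have hOinv : ∀ z ∈ O, e.h * z * e.h⁻¹ ∈ O := by
          rintro z ⟨k, hk, rfl⟩
          exact ⟨e.h * k, mul_mem e.h_normalizer hk, by group⟩
        exact (e.class_mem hOinv (hOV y hyO hyt) (htne hyt) hv hv1).2
          (by rw [htt]; exact ⟨ea.h, ea.h_normalizer, rfl⟩)
    have h4 : Nat.card {z : G // ∃ k ∈ normalizer (X.E : Set G), z = k * t * k⁻¹} = 4 := by
      rw [← e.card_V]
      exact (Nat.card_congr (Equiv.ofBijective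
        (fun v : e.V => (⟨t * v, (hset _).2 ⟨v, v.2, rfl⟩⟩ :
          {z : G // ∃ k ∈ normalizer (X.E : Set G), z = k * t * k⁻¹}))
        ⟨fun v w h => Subtype.ext (mul_left_cancel (congrArg Subtype.val h)), fun z => by
          obtain ⟨v, hv, hvz⟩ := (hset _).1 z.2
          exact ⟨⟨v, hv⟩, Subtype.ext hvz⟩⟩)).symm
    apply X.odd_relIndex X.S_le_normalizer
    rw [← card_conj_orbit, h4]
    norm_num
  · -- the class of `t V` is missing
    have hOV : ∀ z ∈ X.Om, z ≠ t → z ∈ e.V := by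
      intro z hz hzt
      rcases e.cases hz.1 with h | h
      · exact h
      · have := (e.class_mem hO h (htne hzt) hxV (htne hxt)).2 (by rwa [htt])
        rw [htt] at this
        exact absurd this hxO
    have hVO : ∀ v ∈ e.V, v ≠ 1 → v ∈ X.Om := fun v hv hv1 =>
      (e.class_mem hO (hOV a ha hat) ha1 hv hv1).1 ha
    have hyV := hOV y hyO hyt
    have haV := hOV a ha hat
    have htnV : t ∉ e.V := e.self_not_mem
    rcases ea.cases X.t_mem_E with htVa | htVa
    · have hty1 : t * y ≠ 1 := htne hyt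
      have htyVa : t * y ∈ ea.V := mul_mem htVa (ea.h_conj_V htVa)
      have htyO := (ea.class_mem hOa htVa X.t_ne htyVa hty1).1 X.t_mem_Om
      have hne : t * y ≠ t := fun h => hy1 (by rw [← htt y, h, X.tt])
      exact e.not_both hyV (hOV _ htyO hne)
    · have hat1 : a * t ≠ 1 := fun h => hat (by
        rw [eq_comm]; exact (eq_inv_of_mul_eq_one_right h).trans (e.inv_eq ha.1))
      have hya : y ≠ a := fun h => hat (by
        calc a = ea.h⁻¹ * (ea.h * a) := (inv_mul_cancel_left _ _).symm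
          _ = ea.h⁻¹ * (a * ea.h) := congrArg _ ea.h_comm
          _ = ea.h⁻¹ * (y * ea.h) := by rw [h]
          _ = t := by rw [hy]; group)
      have hay1 : a * y ≠ 1 := fun h =>
        hya ((eq_inv_of_mul_eq_one_right h).trans (e.inv_eq ha.1))
      have hayO : a * y ∈ X.Om := hVO _ (mul_mem haV hyV) hay1
      have hayVa : a * y ∈ ea.V := by
        have := ea.h_conj_V htVa
        rwa [show ea.h * (a * t) * ea.h⁻¹ = a * y by rw [← mul_assoc, ea.h_comm, hy]; group] at this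
      have hatO : a * t ∈ X.Om := (ea.class_mem hOa hayVa hay1 htVa hat1).1 hayO
      have hne : a * t ≠ t := fun h => ha1 (mul_eq_right.1 h)
      have hatV := hOV _ hatO hne
      have := mul_mem (inv_mem haV) hatV
      rw [inv_mul_cancel_left] at this
      exact htnV this

theorem exists_emb_E {s : G} (hs : s ∈ X.E) (hs1 : s ≠ 1) : Nonempty (Emb X.E s) :=
  X.emb_of_Om ⟨hs, X.all_conj hs hs1⟩

/-- The embedding for an involution of `E`. -/
noncomputable def emb {s : G} (hs : s ∈ X.E) (hs1 : s ≠ 1) : Emb X.E s :=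
  (X.exists_emb_E hs hs1).some

end Hyp

end H58.WJ1
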