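import Cfsg.Agent.H97.J1Invol
import Cfsg.Agent.H16.Janko1.Uniq.Unique
import Cfsg.Agent.H16.OddOrder

/-!
Facts about the group `J₁`.
-/

set_option autoImplicit false

namespace H58.WJ1

open Subgroup H97.J1

abbrev J1' : Type := ↥Cfsg.Spor.J1

theorem card_J1' : Nat.card J1' = 175560 := card_J1

theorem simple_of_iso {H : Type*} [Group H] (e : H ≃* J1') : IsSimpleGroup H := by
  haveI := isSimpleGroup_J1
  haveI : Nontrivial H := e.toEquiv.nontrivial
  exact IsSimpleGroup.isSimpleGroup_of_surjective e.symm.toMonoidHom e.symm.surjective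

theorem center_eq_bot_of_iso {H : Type*} [Group H] (e : H ≃* J1') : center H = ⊥ := by
  haveI := simple_of_iso e
  refine (IsSimpleGroup.eq_bot_or_eq_top_of_normal (center H) inferInstance).resolve_right fun h => ?_
  refine not_commutative_J1 ⟨⟨fun a b => e.symm.injective ?_⟩⟩
  rw [map_mul, map_mul]
  exact (mem_center_iff.1 (h ▸ mem_top (e.symm b)) (e.symm a))

theorem isConj_of_iso {H : Type*} [Group H] (e : H ≃* J1') {x y : H} (hx : orderOf x = 2)
    (hy : orderOf y = 2) : ∃ n : H, n * x * n⁻¹ = y := by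
  obtain ⟨n, hn⟩ := isConj_iff.1 (isConj_of_orderOf_two
    (x := e x) (y := e y) ((orderOf_injective e.toMonoidHom e.injective x).trans hx)
    ((orderOf_injective e.toMonoidHom e.injective y).trans hy))
  exact ⟨e.symm n, e.injective (by rw [map_mul, map_mul, map_inv, e.apply_symm_apply, hn])⟩

theorem sq_dvd_small : ∀ p < 149, p * p ∣ 21945 → p ≤ 1 := by decide +kernel

theorem not_sq_dvd {p : ℕ} (hp : p.Prime) (h : p * p ∣ 21945) : False := by
  have hle := Nat.le_of_dvd (by norm_num) h
  have : p < 149 := by nlinarith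
  exact absurd (sq_dvd_small p this h) (not_le.2 hp.one_lt)

theorem dvd_cases {r : ℕ} (hr : r.Prime) (h : r ∣ 21945) :
    r = 3 ∨ r = 5 ∨ r = 7 ∨ r = 11 ∨ r = 19 := by
  have key : ∀ {q : ℕ}, q.Prime → r ∣ q → r = q := fun hq hd => (Nat.prime_dvd_prime_iff_eq hr hq).1 hd
  rw [show (21945 : ℕ) = 3 * 5 * 7 * 11 * 19 from rfl, hr.dvd_mul, hr.dvd_mul, hr.dvd_mul,
    hr.dvd_mul] at h
  rcases h with (((h | h) | h) | h) | h
  exacts [Or.inl (key (by norm_num) h), Or.inr (Or.inl (key (by norm_num) h)),
    Or.inr (Or.inr (Or.inl (key (by norm_num) h))),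
    Or.inr (Or.inr (Or.inr (Or.inl (key (by norm_num) h)))),
    Or.inr (Or.inr (Or.inr (Or.inr (key (by norm_num) h))))]

/-- No element of `J₁` of order `q` centralises one of order `r` for these pairs. -/
theorem no_commuting {r q : ℕ} (hr : r.Prime) (hq : q.Prime)
    (hrq : r * q ∈ [21, 35, 77, 133, 209]) (hne : r ≠ q) {x y : J1'} (hx : orderOf x = r)
    (hy : orderOf y = q) (hc : Commute x y) : False := by
  have h := hc.orderOf_mul_eq_mul_orderOf_of_coprime
    (by rw [hx, hy]; exact (Nat.coprime_primes hr hq).2 hne)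
  have hm := orderOf_mem (x * y)
  rw [h, hx, hy] at hm
  revert hm
  exact (by decide : ∀ n ∈ [21, 35, 77, 133, 209], n ∉ classOrd) _ hrq

/-- No subgroup of odd order is transitive on involutions. -/
theorem no_odd_transitive (D : Subgroup J1') (hodd : Odd (Nat.card D)) {a : J1'}
    (ha : orderOf a = 2) (htr : ∀ b : J1', orderOf b = 2 → ∃ d ∈ D, d * a * d⁻¹ = b) : False := by
  have hdiv : Nat.card D ∣ 21945 := by
    have h : Nat.card D ∣ 8 * 21945 := by
      rw [show 8 * 21945 = Nat.card J1' by rw [card_J1']]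
      exact card_subgroup_dvd_card D
    refine (Nat.Coprime.dvd_of_dvd_mul_left ?_ h)
    exact (Nat.Coprime.pow_right 3 (Nat.coprime_two_right.2 hodd) : (Nat.card D).Coprime (2 ^ 3))
  -- the index of the centraliser divides the order of `D`
  obtain ⟨g, hg⟩ := isConj_iff.1 (isConj_of_orderOf_two orderOf_tInv ha)
  set C := centralizer ({a} : Set J1') with hC
  have hmap : C = (CT).map (MulAut.conj g).toMonoidHom := by
    ext x
    rw [hC, mem_map_equiv, MulAut.conj_symm_apply, mem_centralizer_singleton_iff,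
      mem_centralizer_singleton_iff, ← hg]
    constructor <;> intro h
    · calc g⁻¹ * x * g * tInv = g⁻¹ * (x * (g * tInv * g⁻¹)) * g := by group
        _ = g⁻¹ * (g * tInv * g⁻¹ * x) * g := by rw [h]
        _ = tInv * (g⁻¹ * x * g) := by group
    · calc x * (g * tInv * g⁻¹) = g * (g⁻¹ * x * g * tInv) * g⁻¹ := by group
        _ = g * (tInv * (g⁻¹ * x * g)) * g⁻¹ := by rw [h]
        _ = g * tInv * g⁻¹ * x := by group
  have hCcard : Nat.card C = 120 := by
    rw [hmap, card_map_of_injective (MulAut.conj g).injective, card_CT]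
  have h1463 : 1463 ∣ Nat.card D := by
    have hidx : C.index = 1463 := by
      have := C.card_mul_index
      rw [hCcard, card_J1'] at this
      omega
    have : C.relIndex D = C.index := by
      refine Nat.card_congr (Equiv.ofBijective
        (Quotient.map' (fun d : D => (d : J1')) fun x y hxy => ?_) ⟨?_, ?_⟩)
      · rw [QuotientGroup.leftRel_apply] at hxy ⊢
        exact hxy
      · rintro ⟨x⟩ ⟨y⟩ h
        have := Quotient.exact' h
        rw [QuotientGroup.leftRel_apply] at this
        exact Quotient.sound' (QuotientGroup.leftRel_apply.2 this)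
      · rintro ⟨x⟩
        obtain ⟨d, hd, hdx⟩ := htr (x * a * x⁻¹)
          ((orderOf_injective (MulAut.conj x).toMonoidHom (MulAut.conj x).injective a).trans ha)
        refine ⟨Quotient.mk'' ⟨d, hd⟩, Quotient.sound' (QuotientGroup.leftRel_apply.2 ?_)⟩
        rw [hC, mem_centralizer_singleton_iff]
        calc d⁻¹ * x * a = d⁻¹ * (x * a * x⁻¹) * x := by group
          _ = d⁻¹ * (d * a * d⁻¹) * x := by rw [hdx]
          _ = a * (d⁻¹ * x) := by group
    rw [← hidx, ← this]
    exact relIndex_dvd_card C D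
  haveI hsol : Group.IsSolvable D := H16.FT.oddOrder hodd
  -- a nontrivial normal abelian subgroup
  obtain ⟨A, hAn, hA1, hAc⟩ : ∃ A : Subgroup D, A.Normal ∧ A ≠ ⊥ ∧
      ∀ x ∈ A, ∀ y ∈ A, x * y = y * x := by
    obtain ⟨n, hn⟩ := hsol.solvable
    classical
    have hex : ∃ k, derivedSeries D k = ⊥ := ⟨n, hn⟩
    have hpos : 0 < Nat.find hex := by
      refine Nat.pos_of_ne_zero fun h0 => ?_
      have h := Nat.find_spec hex
      rw [h0, derivedSeries_zero] at h
      have h1 : Nat.card D = 1 := by rw [← card_top, h, card_bot]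
      rw [h1] at h1463
      norm_num at h1463
    refine ⟨derivedSeries D (Nat.find hex - 1), derivedSeries_normal D _,
      Nat.find_min hex (by omega), fun x hx y hy => ?_⟩
    have h := Nat.find_spec hex
    rw [show Nat.find hex = Nat.find hex - 1 + 1 by omega, derivedSeries_succ] at h
    have := commutator_mem_commutator hx hy
    rw [h, mem_bot, commutatorElement_eq_one_iff_mul_comm] at this
    exact this
  obtain ⟨r, hr, hrA⟩ := Nat.exists_prime_and_dvd (fun h => hA1 (card_eq_one.1 h))
  haveI := Fact.mk hr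
  let R : Subgroup D :=
    { carrier := {x | x ∈ A ∧ x ^ r = 1}
      one_mem' := ⟨one_mem A, one_pow r⟩
      mul_mem' := fun {x y} hx hy => ⟨mul_mem hx.1 hy.1, by
        rw [(show Commute x y from hAc x hx.1 y hy.1).mul_pow, hx.2, hy.2, mul_one]⟩
      inv_mem' := fun {x} hx => ⟨inv_mem hx.1, by rw [inv_pow, hx.2, inv_one]⟩ }
  have hrD : r ∣ Nat.card D := hrA.trans (card_subgroup_dvd_card A)
  have hrcard : Nat.card R = r := by
    have hp : IsPGroup r R := fun x => ⟨1, Subtype.ext (by simpa using x.2.2)⟩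
    obtain ⟨k, hk⟩ := IsPGroup.iff_card.1 hp
    have hd : r ^ k ∣ 21945 := hk ▸ (card_subgroup_dvd_card R).trans hdiv
    have hk2 : k < 2 := by
      by_contra hcon
      exact not_sq_dvd hr (by rw [← pow_two]; exact (pow_dvd_pow r (by omega)).trans hd)
    obtain ⟨x, hx⟩ := exists_prime_orderOf_dvd_card' (G := A) r hrA
    have hxR : (x : D) ∈ R := ⟨x.2, by rw [← coe_pow, ← hx, pow_orderOf_eq_one, coe_one]⟩
    have hk0 : k ≠ 0 := fun h0 => by
      rw [h0, pow_zero, card_eq_one] at hk
      rw [hk, mem_bot, OneMemClass.coe_eq_one] at hxR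
      rw [hxR, orderOf_one] at hx
      exact hr.one_lt.ne hx
    rw [hk, show k = 1 by omega, pow_one]
  have hRn : R.Normal := ⟨fun x hx g => ⟨hAn.conj_mem x hx.1 g, by
    rw [conj_pow, hx.2, mul_one, mul_inv_cancel]⟩⟩
  haveI : IsCyclic R := isCyclic_of_prime_card hrcard
  -- an element of order `q`
  obtain ⟨q, hq, hq1463, hqr, hmem, hcop⟩ : ∃ q : ℕ, q.Prime ∧ q ∣ 1463 ∧ r ≠ q ∧
      r * q ∈ [21, 35, 77, 133, 209] ∧ q.Coprime (r - 1) := by
    rcases dvd_cases hr (hrD.trans hdiv) with rfl | rfl | rfl | rfl | rfl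
    exacts [⟨7, by norm_num, by norm_num, by norm_num, by decide, by norm_num⟩,
      ⟨7, by norm_num, by norm_num, by norm_num, by decide, by norm_num⟩,
      ⟨19, by norm_num, by norm_num, by norm_num, by decide, by norm_num⟩,
      ⟨19, by norm_num, by norm_num, by norm_num, by decide, by norm_num⟩,
      ⟨7, by norm_num, by norm_num, by norm_num, by decide, by norm_num⟩]
  haveI := Fact.mk hq
  obtain ⟨y, hy⟩ := exists_prime_orderOf_dvd_card' (G := D) q (hq1463.trans h1463)
  obtain ⟨x, hx⟩ := exists_prime_orderOf_dvd_card' (G := R) r (hrcard ▸ dvd_rfl)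
  haveI := hRn
  have hfix : MulAut.conjNormal y = (1 : MulAut R) := by
    rw [← orderOf_eq_one_iff]
    refine Nat.eq_one_of_dvd_coprimes hcop (hy ▸ orderOf_map_dvd MulAut.conjNormal y) ?_
    have := orderOf_dvd_natCard (MulAut.conjNormal (H := R) y)
    rwa [IsCyclic.card_mulAut, hrcard, Nat.totient_prime hr] at this
  have hcomm : Commute ((x : D) : J1') (y : J1') := by
    have h := DFunLike.congr_fun hfix x
    rw [MulAut.one_apply] at h
    have h2 := congrArg (fun z : R => ((z : D) : J1')) h
    simp only [MulAut.conjNormal_apply, coe_mul, coe_inv] at h2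
    exact (mul_inv_eq_iff_eq_mul.1 h2).symm
  exact no_commuting hr hq hmem hqr (by rw [orderOf_coe, orderOf_coe, hx])
    (by rw [orderOf_coe, hy]) hcomm

theorem factorization_aux : (120 : ℕ).factorization 2 = (175560 : ℕ).factorization 2 := by
  rw [show (120 : ℕ) = 2 ^ 3 * 15 from rfl, show (175560 : ℕ) = 2 ^ 3 * 21945 from rfl,
    Nat.factorization_mul (by norm_num) (by norm_num), Nat.factorization_mul (by norm_num) (by norm_num)]
  simp [Nat.factorization_eq_zero_of_not_dvd (show ¬(2 ∣ 15) by norm_num),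
    Nat.factorization_eq_zero_of_not_dvd (show ¬(2 ∣ 21945) by norm_num)]

universe u

/-- Recognition of `J₁` by the centraliser of a central involution of a Sylow subgroup. -/
theorem iso_J1 {G : Type u} [Group G] [Finite G] [IsSimpleGroup G] (t : G)
    (ht : Cfsg.IsTwoCentralInvolution t)
    (e : centralizer ({t} : Set G) ≃* Multiplicative (ZMod 2) × alternatingGroup (Fin 5)) :
    Nonempty (G ≃* J1') := by
  haveI := isSimpleGroup_J1
  obtain ⟨i⟩ := H16.J1.Uniq.iso_tableGroup_of_equiv t ht e
  obtain ⟨e'⟩ := nonempty_centEquiv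
  have h2 : Cfsg.IsTwoCentralInvolution tInv :=
    H16.J1.Uniq.twoCentral_of_card tInv orderOf_tInv (by
      rw [show Nat.card (centralizer ({tInv} : Set J1')) = 120 from card_CT, card_J1',
        factorization_aux])
  obtain ⟨j⟩ := H16.J1.Uniq.iso_tableGroup_of_equiv tInv h2 e'
  exact ⟨i.trans j.symm⟩

end H58.WJ1
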