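import Cfsg.Agent.H58.WeakJ1.Fusion
import Cfsg.Agent.H65.BaerSuzuki

/-!
The subgroup `N` generated by the weak closures, and its normaliser.
-/

set_option autoImplicit false

namespace H58.WJ1

open Subgroup H16.J1

universe u

variable {G : Type u} [Group G]

namespace Hyp

variable (X : Hyp G)

/-- The subgroup generated by the weak closures of the involutions of `E`. -/
def N : Subgroup G := closure {x | ∃ s ∈ X.E, s ≠ 1 ∧ x ∈ wcl s}

/-- Its normaliser. -/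
def M0 : Subgroup G := normalizer (X.N : Set G)

theorem wcl_le_N {s : G} (hs : s ∈ X.E) (hs1 : s ≠ 1) : wcl s ≤ X.N :=
  fun _ hx => subset_closure ⟨s, hs, hs1, hx⟩

theorem E_le_N : X.E ≤ X.N := inf_le_right.trans (X.wcl_le_N X.t_mem_E X.t_ne)

theorem N_le_M0 : X.N ≤ X.M0 := le_normalizer

theorem comm_N {c : G} (h : ∀ s ∈ X.E, s ≠ 1 → ∀ w ∈ wcl s, c * w = w * c) :
    c ∈ centralizer (X.N : Set G) := by
  have hle : X.N ≤ centralizer ({c} : Set G) := (closure_le _).2 fun x ⟨s, hs, hs1, hx⟩ =>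
    mem_centralizer_singleton_iff.2 (h s hs hs1 x hx).symm
  exact mem_centralizer_iff.2 fun x hx => mem_centralizer_singleton_iff.1 (hle hx)

theorem comm_of_mem {c x : G} (hc : c ∈ centralizer (X.N : Set G)) (hx : x ∈ X.N) :
    c * x = x * c :=
  (mem_centralizer_iff.1 hc x hx).symm

variable [Finite G]

theorem exists_NE_conj {s : G} (hs : s ∈ X.E) (hs1 : s ≠ 1) :
    ∃ n ∈ X.N, n ∈ normalizer (X.E : Set G) ∧ s = n * X.t * n⁻¹ := by
  set t := X.t
  set e := X.et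
  let O : Set G := {z | ∃ n ∈ X.N, n ∈ normalizer (X.E : Set G) ∧ z = n * t * n⁻¹}
  show s ∈ O
  have hinv : ∀ {r : G}, r ∈ X.E → r ≠ 1 → ∀ f : Emb X.E r, ∀ z ∈ O, f.h * z * f.h⁻¹ ∈ O := by
    rintro r hr hr1 f z ⟨n, hn, hn', rfl⟩
    exact ⟨f.h * n, mul_mem (X.wcl_le_N hr hr1 f.h_mem) hn, mul_mem f.h_normalizer hn', by group⟩
  have htO : t ∈ O := ⟨1, one_mem _, one_mem _, by simp⟩
  have hOE : ∀ z ∈ O, z ∈ X.E ∧ z ≠ 1 := by
    rintro z ⟨n, -, hn', rfl⟩
    exact ⟨conj_mem_of_mem_normalizer hn' X.t_mem_E, fun h => X.t_ne (conj_eq_one_iff.1 h)⟩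
  by_contra hsO
  have hst : s ≠ t := fun h => hsO (h ▸ htO)
  have htt : ∀ y, t * (t * y) = y := fun y => by rw [← mul_assoc, X.tt, one_mul]
  have htne : ∀ {y}, y ≠ t → t * y ≠ 1 := fun {y} hy h => hy (by rw [← htt y, h, mul_one])
  let f := X.emb hs hs1
  have hfE : ∀ z ∈ O, f.h * z * f.h⁻¹ ≠ z := fun z hz =>
    f.h_moves (hOE z hz).1 (hOE z hz).2 fun h => hsO (h ▸ hz)
  set y := f.h * t * f.h⁻¹ with hy
  set z := f.h * y * f.h⁻¹ with hz
  have hyO : y ∈ O := hinv hs hs1 f _ htO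
  have hzO : z ∈ O := hinv hs hs1 f _ hyO
  have hyt : y ≠ t := hfE t htO
  have hzy : z ≠ y := hfE y hyO
  have hcube : f.h * z * f.h⁻¹ = t := by
    have e3 : f.h * (f.h * f.h) = 1 := by rw [← f.h_cube, pow_succ', pow_two]
    calc f.h * z * f.h⁻¹ = f.h * (f.h * f.h) * t * (f.h * (f.h * f.h))⁻¹ := by
          rw [hz, hy]; group
      _ = t := by rw [e3, one_mul, inv_one, mul_one]
  have hzt : z ≠ t := fun h => hfE z hzO (by rw [hcube, h])
  have hinvt := hinv X.t_mem_E X.t_ne e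
  obtain ⟨hyE, hy1⟩ := hOE y hyO
  obtain ⟨hzE, hz1⟩ := hOE z hzO
  -- translation into the four-group of the class not containing `s`
  obtain ⟨κ, hκκ, hκt, hκ1, hκ2⟩ : ∃ κ : G, (∀ x, κ * (κ * x) = x) ∧ (κ * t ∈ e.V → κ * t = 1) ∧
      (∀ x ∈ O, x ≠ t → κ * x ∈ e.V ∧ κ * x ≠ 1) ∧
      (∀ x, κ * x ∈ e.V → κ * x ≠ 1 → x ∈ O) := by
    by_cases hsV : s ∈ e.V
    · have h1 : ∀ x ∈ O, x ≠ t → t * x ∈ e.V ∧ t * x ≠ 1 := fun x hx hxt => by
        refine ⟨(e.cases (hOE x hx).1).resolve_left fun hxV => hsO ?_, htne hxt⟩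
        exact (e.class_mem hinvt hxV (hOE x hx).2 hsV hs1).1 hx
      refine ⟨t, htt, fun _ => X.tt, h1, fun x hx hx1 => ?_⟩
      have := (e.class_mem hinvt (h1 y hyO hyt).1 (h1 y hyO hyt).2 hx hx1).2 (by rwa [htt])
      rwa [htt] at this
    · have hsV' := (e.cases hs).resolve_left hsV
      have h1 : ∀ x ∈ O, x ≠ t → x ∈ e.V := fun x hx hxt =>
        (e.cases (hOE x hx).1).resolve_right fun hxV => hsO (by
          have := (e.class_mem hinvt hxV (htne hxt) hsV' (htne hst)).2 (by rwa [htt])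
          rwa [htt] at this)
      refine ⟨1, by simp, fun h => absurd (by simpa using h) e.self_not_mem,
        fun x hx hxt => by rw [one_mul]; exact ⟨h1 x hx hxt, (hOE x hx).2⟩, fun x hx hx1 => ?_⟩
      rw [one_mul] at hx hx1
      exact (e.class_mem hinvt (h1 y hyO hyt) hy1 hx hx1).1 hyO
  obtain ⟨hyV, hy1'⟩ := hκ1 y hyO hyt
  obtain ⟨hzV, hz1'⟩ := hκ1 z hzO hzt
  have hd : κ * y * (κ * z) ∈ e.V := mul_mem hyV hzV
  set p := κ * y * (κ * z) with hp
  set w := κ * p with hw'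
  have hκw : κ * w = p := hκκ p
  have hp1 : p ≠ 1 := fun h => hzy (mul_left_cancel
    ((eq_inv_of_mul_eq_one_right h).trans (e.inv_eq (e.V_le hyV))))
  have hw : w ∈ O := hκ2 w (by rwa [hκw]) (by rwa [hκw])
  have hwy : w ≠ y := fun h => hz1' (mul_eq_left.1 (show κ * y * (κ * z) = κ * y by
    rw [← hp, ← hκw, h]))
  have hwz : w ≠ z := fun h => hy1' (mul_eq_right.1 (show κ * y * (κ * z) = κ * z by
    rw [← hp, ← hκw, h]))
  have hwt : w ≠ t := fun h => hp1 (by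
    rw [← hκw, h]; exact hκt (by rw [← h, hκw]; exact hd))
  have hfw := hinv hs hs1 f w hw
  -- the image of the fourth point is none of the four points
  have hne : ∀ {a b : G}, a ≠ b → f.h * a * f.h⁻¹ ≠ f.h * b * f.h⁻¹ := fun {a b} hab h =>
    hab (mul_left_cancel (mul_right_cancel h))
  have h1 : f.h * w * f.h⁻¹ ≠ y := hy ▸ hne hwt
  have h2 : f.h * w * f.h⁻¹ ≠ z := hz ▸ hne hwy
  have h3 : f.h * w * f.h⁻¹ ≠ t := hcube ▸ hne hwz
  have h4 : f.h * w * f.h⁻¹ ≠ w := hfE w hw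
  set v := f.h * w * f.h⁻¹
  obtain ⟨hwV, hw1⟩ := hκ1 w hw hwt
  obtain ⟨hvV, hv1⟩ := hκ1 v hfw h3
  have hne' : ∀ {a b : G}, a ≠ b → κ * a ≠ κ * b := fun {a b} hab h => hab (mul_left_cancel h)
  -- four different points in one class
  have d1 := hne' hzy.symm
  have d2 := hne' hwy.symm
  have d3 := hne' h1.symm
  have d4 := hne' hwz.symm
  have d5 := hne' h2.symm
  have d6 := hne' h4.symm
  rcases e.h_trans hyV hy1' hzV hz1' with h | h | h <;>
    rcases e.h_trans hyV hy1' hwV hw1 with h' | h' | h' <;>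
    rcases e.h_trans hyV hy1' hvV hv1 with h'' | h'' | h'' <;>
    first
      | exact d1 h
      | exact d2 h'
      | exact d3 h''
      | exact d4 (h.symm.trans h')
      | exact d5 (h.symm.trans h'')
      | exact d6 (h'.symm.trans h'')

theorem cfix {c a : G} (hct : c * X.t = X.t * c) (hcE : c ∈ normalizer (X.E : Set G))
    (ha : a ∈ X.et.V) (ha1 : a ≠ 1) (hca : c * a = a * c) : ∀ x ∈ X.E, c * x = x * c := by
  set e := X.et
  let ea := X.emb (e.V_le ha) ha1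
  have hV : ∀ x ∈ e.V, c * x * c⁻¹ ∈ e.V := fun x hx =>
    e.conj_V hct (fun y hy => conj_mem_of_mem_normalizer hcE hy) hx
  have hVa : ∀ x ∈ ea.V, c * x * c⁻¹ ∈ ea.V := fun x hx =>
    ea.conj_V hca (fun y hy => conj_mem_of_mem_normalizer hcE hy) hx
  have haa : ∀ x, a * (a * x) = x := fun x => by rw [← mul_assoc, e.sq (e.V_le ha), one_mul]
  have hfix : ∀ x ∈ e.V, c * x = x * c := by
    intro x hx
    by_cases hx1 : x = 1
    · rw [hx1, mul_one, one_mul]
    by_cases hxa : x = a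
    · rw [hxa, hca]
    set y := c * x * c⁻¹ with hy
    have hyV := hV x hx
    rw [← hy] at hyV
    have hy1 : y ≠ 1 := fun h => hx1 (conj_eq_one_iff.1 h)
    have hya : y ≠ a := fun h => hxa (by
      calc x = c⁻¹ * y * c := by rw [hy]; group
        _ = c⁻¹ * (a * c) := by rw [h, mul_assoc]
        _ = a := by rw [← hca, inv_mul_cancel_left])
    have hax1 : a * x ≠ 1 := fun h => hxa (by rw [← haa x, h, mul_one])
    have hyax : y = x ∨ y = a * x := by
      rcases e.h_trans ha ha1 hx hx1 with h | h | h <;>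
        rcases e.h_trans ha ha1 (mul_mem ha hx) hax1 with h' | h' | h' <;>
        rcases e.h_trans ha ha1 hyV hy1 with h'' | h'' | h'' <;>
        first
          | exact Or.inl (h''.symm.trans h)
          | exact Or.inr (h''.symm.trans h')
          | exact absurd h.symm hxa
          | exact absurd h''.symm hya
          | exact absurd (mul_eq_left.1 h'.symm) hx1
          | exact absurd (mul_eq_right.1 (h'.symm.trans h)) ha1
    rcases hyax with h | h
    · exact mul_inv_eq_iff_eq_mul.1 h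
    · exfalso
      rcases ea.cases (e.V_le hx) with hc | hc
      · have := hVa x hc
        rw [← hy, h] at this
        exact ea.not_both hc this
      · have := hVa _ hc
        rw [show c * (a * x) * c⁻¹ = a * (c * x * c⁻¹) by rw [← mul_assoc, hca]; group, ← hy, h,
          haa] at this
        exact ea.not_both this hc
  intro x hx
  rcases e.cases hx with h | h
  · exact hfix x h
  · have h1 := hfix _ h
    calc c * x = c * X.t * (X.t * x) := by rw [mul_assoc c X.t, ← mul_assoc X.t, X.tt, one_mul]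
      _ = X.t * (c * (X.t * x)) := by rw [hct, mul_assoc]
      _ = X.t * (X.t * x * c) := by rw [h1]
      _ = x * c := by rw [← mul_assoc, ← mul_assoc, X.tt, one_mul]

theorem exists_h_pow {c : G} (hct : c * X.t = X.t * c) (hcE : c ∈ normalizer (X.E : Set G)) :
    ∃ i : ℕ, ∀ x ∈ X.E, ((X.et.h ^ i)⁻¹ * c) * x = x * ((X.et.h ^ i)⁻¹ * c) := by
  set e := X.et
  obtain ⟨a, ha, ha1⟩ : ∃ a ∈ e.V, a ≠ 1 := by
    refine e.V.bot_or_exists_ne_one.resolve_left fun h => ?_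
    have := e.card_V
    rw [h, card_bot] at this
    omega
  have hV : c * a * c⁻¹ ∈ e.V := e.conj_V hct (fun y hy => conj_mem_of_mem_normalizer hcE hy) ha
  have hex : ∃ i : ℕ, c * a * c⁻¹ = e.h ^ i * a * (e.h ^ i)⁻¹ := by
    rcases e.h_trans ha ha1 hV (fun h => ha1 (conj_eq_one_iff.1 h)) with h | h | h
    · exact ⟨0, by simpa using h.symm⟩
    · exact ⟨1, by simpa using h.symm⟩
    · exact ⟨2, by rw [← h, pow_two]; group⟩
  obtain ⟨i, hi⟩ := hex
  refine ⟨i, X.cfix ?_ (mul_mem (inv_mem (pow_mem e.h_normalizer i)) hcE) ha ha1 ?_⟩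
  · exact (((show Commute e.h X.t from e.h_comm).pow_left i).inv_left.mul_left hct).eq
  · calc (e.h ^ i)⁻¹ * c * a = (e.h ^ i)⁻¹ * (c * a * c⁻¹) * c := by group
      _ = a * ((e.h ^ i)⁻¹ * c) := by rw [hi]; group

/-- The Sylow subgroup centralises `E`. -/
theorem S_comm {g x : G} (hg : g ∈ (X.S : Subgroup G)) (hx : x ∈ X.E) : g * x = x * g := by
  set e := X.et
  obtain ⟨i, hi⟩ := X.exists_h_pow (X.htc g hg) (X.S_le_normalizer hg)
  set k := e.h ^ i with hk
  have hkE : ∀ y ∈ X.E, k * y * k⁻¹ ∈ X.E := fun y hy =>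
    conj_mem_of_mem_normalizer (pow_mem e.h_normalizer i) hy
  have hg1 : ∀ y ∈ X.E, g * y * g⁻¹ = k * y * k⁻¹ := fun y hy => by
    calc g * y * g⁻¹ = k * (k⁻¹ * g * y) * (k⁻¹ * g)⁻¹ * k⁻¹ := by group
      _ = k * y * k⁻¹ := by rw [hi y hy]; group
  have hpow : ∀ n : ℕ, ∀ y ∈ X.E, g ^ n * y * (g ^ n)⁻¹ = k ^ n * y * (k ^ n)⁻¹ := by
    intro n
    induction n with
    | zero => simp
    | succ n ih =>
      intro y hy
      calc g ^ (n + 1) * y * (g ^ (n + 1))⁻¹ = g ^ n * (g * y * g⁻¹) * (g ^ n)⁻¹ := by group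
        _ = k ^ n * (k * y * k⁻¹) * (k ^ n)⁻¹ := by rw [hg1 y hy, ih _ (hkE y hy)]
        _ = k ^ (n + 1) * y * (k ^ (n + 1))⁻¹ := by group
  obtain ⟨j, hj⟩ := X.S.2 ⟨g, hg⟩
  have hj' : g ^ 2 ^ j = 1 := congrArg Subtype.val hj
  have hkj : k ^ 2 ^ j * x = x * k ^ 2 ^ j := by
    have := hpow (2 ^ j) x hx
    rw [hj', one_mul, inv_one, mul_one] at this
    exact mul_inv_eq_iff_eq_mul.1 this.symm
  have hd : orderOf k ∣ 3 :=
    orderOf_dvd_of_pow_eq_one (by rw [hk, ← pow_mul, mul_comm, pow_mul, e.h_cube, one_pow])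
  obtain ⟨m, hm⟩ := exists_pow_eq_self_of_coprime
    ((show (2 ^ j).Coprime 3 from Nat.Coprime.pow_left j (by norm_num)).coprime_dvd_right hd)
  have hkx : k * x = x * k := by
    rw [← hm]
    exact (show Commute (k ^ 2 ^ j) x from hkj).pow_left m
  have := hg1 x hx
  rw [hkx, mul_inv_cancel_right] at this
  exact mul_inv_eq_iff_eq_mul.1 this

/-- An element centralising `E` of odd order centralises `N`. -/
theorem odd_comm_N {c : G} (hc : ∀ x ∈ X.E, c * x = x * c) (hodd : Odd (orderOf c)) :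
    c ∈ centralizer (X.N : Set G) := by
  refine X.comm_N fun s hs hs1 w hw => ?_
  let e := X.emb hs hs1
  obtain ⟨v, hv, hact⟩ := e.act hc
  have hpow : ∀ n : ℕ, ∀ y ∈ wcl s, c ^ n * y * (c ^ n)⁻¹ = v ^ n * y * (v ^ n)⁻¹ := by
    intro n
    induction n with
    | zero => simp
    | succ n ih =>
      intro y hy
      have hm : c * y * c⁻¹ ∈ wcl s := wcl_invariant (hc s hs) hy
      calc c ^ (n + 1) * y * (c ^ (n + 1))⁻¹ = c ^ n * (c * y * c⁻¹) * (c ^ n)⁻¹ := by group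
        _ = v ^ n * (c * y * c⁻¹) * (v ^ n)⁻¹ := ih _ hm
        _ = v ^ (n + 1) * y * (v ^ (n + 1))⁻¹ := by rw [hact y hy]; group
  have h := hpow (orderOf c) w hw
  obtain ⟨k, hk⟩ := hodd
  rw [pow_orderOf_eq_one, hk, pow_succ, pow_mul, pow_two, e.sq (e.V_le hv), one_pow, one_mul,
    one_mul, inv_one, mul_one, ← hact w hw] at h
  exact mul_inv_eq_iff_eq_mul.1 h.symm

theorem normalizer_E_le_M0 : normalizer (X.E : Set G) ≤ X.M0 := fun k hk => by
  refine mem_normalizer_of_forall fun x hx => ?_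
  have hle : X.N ≤ X.N.comap (MulAut.conj k).toMonoidHom := by
    refine (closure_le _).2 ?_
    rintro y ⟨s, hs, hs1, hy⟩
    exact X.wcl_le_N (conj_mem_of_mem_normalizer hk hs) (fun h => hs1 (conj_eq_one_iff.1 h))
      (wcl_conj_mem hy)
  exact hle hx

/-- The centraliser of `t` is the product of the weak closure and the centraliser of `E`. -/
theorem exists_decomp {c : G} (hc : c * X.t = X.t * c) :
    ∃ w ∈ wcl X.t, ∃ z : G, (∀ x ∈ X.E, z * x = x * z) ∧ c = w * z := by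
  set e := X.et
  let E' := X.E.map (MulAut.conj c).toMonoidHom
  have hle : E' ≤ wcl X.t := fun y ⟨x, hx, hxy⟩ => hxy ▸ wcl_invariant hc (e.le_wcl hx)
  have hcard : Nat.card E' = 8 := by
    rw [card_map_of_injective (MulAut.conj c).injective, X.card_E]
  have hP : Nat.card (E'.comap e.φ) = 8 := by
    rw [Nat.card_congr ((E'.comap e.φ).equivMapOfInjective e.φ e.inj).toEquiv,
      map_comap_eq_self (e.range_eq.symm ▸ hle), hcard]
  obtain ⟨k, hk⟩ := sylM_conj _ hP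
  have hw : e.φ k ∈ wcl X.t := e.mem_wcl k
  have hn : e.φ k * c ∈ normalizer (X.E : Set G) := mem_normalizer_of_forall fun x hx => by
    obtain ⟨q, hq⟩ := e.exists_of_mem (hle (conj_mem_map (g := c) hx))
    have hq' : q ∈ E'.comap e.φ := mem_comap.2 (hq ▸ conj_mem_map hx)
    have := e.syl_mem (hk.le (conj_mem_map (g := k) hq'))
    rw [map_mul, map_mul, map_inv, hq] at this
    rwa [show e.φ k * c * x * (e.φ k * c)⁻¹ = e.φ k * (c * x * c⁻¹) * (e.φ k)⁻¹ by group]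
  have hwc : e.φ k * c * X.t = X.t * (e.φ k * c) :=
    ((show Commute (e.φ k) X.t from wcl_comm hw).mul_left hc).eq
  obtain ⟨i, hi⟩ := X.exists_h_pow hwc hn
  exact ⟨(e.φ k)⁻¹ * e.h ^ i, mul_mem (inv_mem hw) (pow_mem e.h_mem i),
    (e.h ^ i)⁻¹ * (e.φ k * c), hi, by group⟩

theorem centralizer_E_le_M0 {z : G} (hz : ∀ x ∈ X.E, z * x = x * z) : z ∈ X.M0 :=
  X.normalizer_E_le_M0 (mem_normalizer_of_forall fun x hx => by
    rwa [hz x hx, mul_inv_cancel_right])

theorem centralizer_t_le_M0 {c : G} (hc : c * X.t = X.t * c) : c ∈ X.M0 := by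
  obtain ⟨w, hw, z, hz, rfl⟩ := X.exists_decomp hc
  exact mul_mem (X.N_le_M0 (X.wcl_le_N X.t_mem_E X.t_ne hw)) (X.centralizer_E_le_M0 hz)

theorem centralizer_le_M0 {c s : G} (hs : s ∈ X.E) (hs1 : s ≠ 1) (hc : c * s = s * c) :
    c ∈ X.M0 := by
  obtain ⟨n, hn, -, rfl⟩ := X.exists_NE_conj hs hs1
  have h : n⁻¹ * c * n * X.t = X.t * (n⁻¹ * c * n) := by
    calc n⁻¹ * c * n * X.t = n⁻¹ * (c * (n * X.t * n⁻¹)) * n := by group
      _ = n⁻¹ * (n * X.t * n⁻¹ * c) * n := by rw [hc]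
      _ = X.t * (n⁻¹ * c * n) := by group
  have hnM := X.N_le_M0 hn
  have := mul_mem (mul_mem hnM (X.centralizer_t_le_M0 h)) (inv_mem hnM)
  rwa [show n * (n⁻¹ * c * n) * n⁻¹ = c by group] at this

theorem S_le_M0 : (X.S : Subgroup G) ≤ X.M0 := fun g hg => X.centralizer_t_le_M0 (X.htc g hg)

theorem invol_into_S {x : G} (hx : x ∈ X.M0) (hxx : x * x = 1) :
    ∃ m ∈ X.M0, m * x * m⁻¹ ∈ (X.S : Subgroup G) := by
  haveI : Fact (Nat.Prime 2) := ⟨Nat.prime_two⟩
  have hP : IsPGroup 2 (zpowers x) := by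
    rcases eq_or_ne x 1 with rfl | hx1
    · rw [zpowers_one_eq_bot]; exact IsPGroup.of_bot
    · exact IsPGroup.of_card (n := 1)
        (by rw [Nat.card_zpowers, orderOf_eq_prime (by rw [pow_two, hxx]) hx1, pow_one])
  obtain ⟨k, hk, h⟩ := conj_into_sylow X.M0 X.S X.S_le_M0 _ hP (zpowers_le.2 hx)
  exact ⟨k, hk, h x (mem_zpowers x)⟩

/-- Only elements of `M0` move a conjugate of `t` in `M0` into `M0`. -/
theorem unique_point {g s : G} (hs : s ∈ X.E) (hs1 : s ≠ 1) (h : g * s * g⁻¹ ∈ X.M0) :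
    g ∈ X.M0 := by
  obtain ⟨n, hn, -, hns⟩ := X.exists_NE_conj hs hs1
  have hconj : g * s * g⁻¹ = (g * n) * X.t * (g * n)⁻¹ := by rw [hns]; group
  obtain ⟨m, hm, hmS⟩ := X.invol_into_S h (X.conj_sq ⟨_, hconj⟩)
  have hmE : m * (g * s * g⁻¹) * m⁻¹ ∈ X.E :=
    X.mem_E_of_conj hmS ⟨m * g * n, by rw [hconj]; group⟩
  have hm1 : m * (g * s * g⁻¹) * m⁻¹ ≠ 1 := fun h => hs1
    (conj_eq_one_iff.1 (conj_eq_one_iff.1 h))
  obtain ⟨n', hn', -, hn's⟩ := X.exists_NE_conj hmE hm1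
  have hcomm : n'⁻¹ * (m * g * n) * X.t = X.t * (n'⁻¹ * (m * g * n)) := by
    calc n'⁻¹ * (m * g * n) * X.t
        = n'⁻¹ * (m * (g * (n * X.t * n⁻¹) * g⁻¹) * m⁻¹) * (m * g * n) := by group
      _ = n'⁻¹ * (n' * X.t * n'⁻¹) * (m * g * n) := by rw [← hns, hn's]
      _ = X.t * (n'⁻¹ * (m * g * n)) := by group
  have := X.centralizer_t_le_M0 hcomm
  rw [Subgroup.mul_mem_cancel_left _ (inv_mem (X.N_le_M0 hn')),
    Subgroup.mul_mem_cancel_right _ (X.N_le_M0 hn)] at this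
  exact (Subgroup.mul_mem_cancel_left _ hm).1 this

/-- Two-subgroups through `t` centralise `t`. -/
theorem two_group_comm {Q : Subgroup G} (hQ : IsPGroup 2 Q) (htQ : X.t ∈ Q) {q : G} (hq : q ∈ Q) :
    q * X.t = X.t * q := by
  haveI : Fact (Nat.Prime 2) := ⟨Nat.prime_two⟩
  have hQM : Q ≤ X.M0 := by
    by_contra hne
    obtain ⟨a, haQ, haK, han⟩ := H65.exists_normalizing_not_mem hQ (inf_le_left : Q ⊓ X.M0 ≤ Q)
      (fun h => hne (h ▸ inf_le_right))
    have htM : X.t ∈ Q ⊓ X.M0 := ⟨htQ, X.S_le_M0 X.htS⟩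
    exact haK ⟨haQ, X.unique_point X.t_mem_E X.t_ne (conj_mem_of_mem_normalizer han htM).2⟩
  obtain ⟨k, hk, h⟩ := conj_into_sylow X.M0 X.S X.S_le_M0 Q hQ hQM
  have := X.S_comm (h q hq) (X.mem_E_of_conj (h _ htQ) ⟨k, rfl⟩)
  have e : k * (q * X.t) * k⁻¹ = k * (X.t * q) * k⁻¹ := by
    calc k * (q * X.t) * k⁻¹ = k * q * k⁻¹ * (k * X.t * k⁻¹) := by group
      _ = k * X.t * k⁻¹ * (k * q * k⁻¹) := this
      _ = k * (X.t * q) * k⁻¹ := by group
  exact mul_left_cancel (mul_right_cancel e)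

end Hyp

end H58.WJ1
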