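import Cfsg.Agent.H16.Janko1.Local
import Cfsg.Agent.H16.Janko1.Uniq.Model

/-!
Finite facts about `Z2 × A5` and its automorphisms.
-/

set_option autoImplicit false
set_option synthInstance.maxSize 4096

namespace H58.WJ1

open H16.J1 H16.J1.Uniq

abbrev Model : Type := H16.J1.M

theorem mem_sylM {m : Model} : m ∈ sylM ↔ m.2 ^ 2 = 1 ∧ (m.2 : Equiv.Perm (Fin 5)) 4 = 4 :=
  Iff.rfl

theorem mem_fourM {m : Model} :
    m ∈ fourM ↔ m.1 = 1 ∧ m.2 ^ 2 = 1 ∧ (m.2 : Equiv.Perm (Fin 5)) 4 = 4 :=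
  Iff.rfl

theorem c2_cases : ∀ c : C2, c = 1 ∨ c = Multiplicative.ofAdd 1 := by decide

theorem tau_central (m : Model) : tau * m = m * tau := by
  obtain ⟨i, b⟩ := m
  exact Prod.ext (mul_comm _ _) (by simp [tau])

theorem tau_mem : tau ∈ sylM := ⟨one_pow 2, rfl⟩

theorem tau_ne : tau ≠ 1 := by decide +kernel

theorem tau_mul_tau : tau * tau = 1 := by decide +kernel

theorem fourM_le : fourM ≤ sylM := fun _ hm => hm.2

theorem center_mem {m : Model} (h : ∀ k, m * k = k * m) : m = 1 ∨ m = tau := by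
  obtain ⟨a, b⟩ := m
  have hb : b = 1 := a5_center b fun c => congrArg Prod.snd (h (1, c))
  subst hb
  rcases c2_cases a with rfl | rfl
  · exact Or.inl rfl
  · exact Or.inr rfl

theorem a5_two_odd : ∀ a : A5, ∃ b : A5, b ^ 15 = 1 ∧ (b⁻¹ * a) ^ 15 = 1 := by decide +kernel

theorem c2_pow_fifteen : ∀ c : C2, c ^ 15 = c := by decide +kernel

/-- Homomorphisms from `A5` to a group of order two are trivial. -/
theorem hom_fst (f : A5 →* Model) (a : A5) : (f a).1 = 1 := by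
  obtain ⟨b, hb, hc⟩ := a5_two_odd a
  have h : ∀ x : A5, x ^ 15 = 1 → (f x).1 = 1 := fun x hx => by
    rw [← c2_pow_fifteen (f x).1, ← Prod.pow_fst, ← map_pow, hx, map_one]
    rfl
  have e : a = b * (b⁻¹ * a) := by group
  rw [e, map_mul, Prod.fst_mul, h b hb, h _ hc, one_mul]

theorem aut_fst (α : Model ≃* Model) {m : Model} (hm : m.1 = 1) : (α m).1 = 1 := by
  have h := hom_fst (α.toMonoidHom.comp (MonoidHom.inr C2 A5)) m.2
  have e : (1, m.2) = m := Prod.ext hm.symm rfl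
  simpa [e] using h

theorem one_or_tau {m : Model} (hm : m ∈ sylM) : m ∈ fourM ∨ tau * m ∈ fourM := by
  rcases c2_cases m.1 with h | h
  · exact Or.inl ⟨h, hm⟩
  · refine Or.inr ⟨?_, sylM.mul_mem tau_mem hm⟩
    rw [Prod.fst_mul, h]
    rfl

theorem not_fourM_of_tau {m : Model} (hm : m ∈ fourM) : tau * m ∉ fourM := fun h => by
  have h1 := h.1
  rw [Prod.fst_mul, hm.1] at h1
  exact absurd h1 (by decide)

theorem fix_m3_dec : ∀ b : A5, b ^ 2 = 1 → (b : Equiv.Perm (Fin 5)) 4 = 4 → b * y3 = y3 * b → b = 1 := by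
  decide +kernel

theorem fix_m3 {m : Model} (hm : m ∈ sylM) (h : m * m3 = m3 * m) : m = 1 ∨ m = tau := by
  obtain ⟨a, b⟩ := m
  obtain rfl := fix_m3_dec b hm.1 hm.2 (congrArg Prod.snd h)
  rcases c2_cases a with rfl | rfl
  · exact Or.inl rfl
  · exact Or.inr rfl

theorem trans_m3_dec : ∀ b c : A5, b ^ 2 = 1 → (b : Equiv.Perm (Fin 5)) 4 = 4 → b ≠ 1 →
    c ^ 2 = 1 → (c : Equiv.Perm (Fin 5)) 4 = 4 → c ≠ 1 →
    b = c ∨ y3 * b * y3⁻¹ = c ∨ y3 * (y3 * b * y3⁻¹) * y3⁻¹ = c := by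
  decide +kernel

theorem fourM_ne_snd {m : Model} (hm : m ∈ fourM) (h : m ≠ 1) : m.2 ≠ 1 :=
  fun h' => h (Prod.ext hm.1 h')

theorem trans_m3 {a b : Model} (ha : a ∈ fourM) (ha1 : a ≠ 1) (hb : b ∈ fourM) (hb1 : b ≠ 1) :
    a = b ∨ m3 * a * m3⁻¹ = b ∨ m3 * (m3 * a * m3⁻¹) * m3⁻¹ = b := by
  have ea : a = (1, a.2) := Prod.ext ha.1 rfl
  have eb : b = (1, b.2) := Prod.ext hb.1 rfl
  rcases trans_m3_dec a.2 b.2 ha.2.1 ha.2.2 (fourM_ne_snd ha ha1) hb.2.1 hb.2.2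
    (fourM_ne_snd hb hb1) with h | h | h
  · exact Or.inl (by rw [ea, eb, h])
  · refine Or.inr (Or.inl ?_)
    rw [ea, eb, ← h]
    exact Prod.ext (by simp [m3]) (by simp [m3])
  · refine Or.inr (Or.inr ?_)
    rw [ea, eb, ← h]
    exact Prod.ext (by simp [m3]) (by simp [m3])

theorem m3_tau : m3 * tau = tau * m3 := (tau_central _).symm

theorem m3_cube : m3 ^ 3 = 1 := by decide +kernel

theorem m3_norm {m : Model} (hm : m ∈ sylM) : m3 * m * m3⁻¹ ∈ sylM :=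
  norm_four_mT m.2 hm.1 hm.2

theorem invol_conj_dec : ∀ b : A5, b ^ 2 = 1 →
    ∃ g : A5, (g * b * g⁻¹) ^ 2 = 1 ∧ ((g * b * g⁻¹ : A5) : Equiv.Perm (Fin 5)) 4 = 4 := by
  decide +kernel

theorem invol_conj {m : Model} (hm : m * m = 1) : ∃ k : Model, k * m * k⁻¹ ∈ sylM := by
  have h2 : m.2 ^ 2 = 1 := by rw [pow_two, ← Prod.snd_mul, hm]; rfl
  obtain ⟨g, hg⟩ := invol_conj_dec m.2 h2
  exact ⟨(1, g), hg⟩

theorem card_model : Nat.card Model = 120 := card_M

theorem sylM_two : IsPGroup 2 sylM := IsPGroup.of_card (n := 3) (by rw [card_sylM]; rfl)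

theorem sylM_sq {m : Model} (hm : m ∈ sylM) : m * m = 1 :=
  Prod.ext (by rcases c2_cases m.1 with h | h <;> rw [Prod.fst_mul, h] <;> rfl)
    (by rw [Prod.snd_mul, ← pow_two]; exact hm.1)

theorem sylM_conj (P : Subgroup Model) (hP : Nat.card P = 8) :
    ∃ k : Model, P.map (MulAut.conj k).toMonoidHom = sylM := by
  haveI : Fact (Nat.Prime 2) := ⟨Nat.prime_two⟩
  have hf : (Nat.card Model).factorization 2 = 3 := by
    rw [card_model, show (120 : ℕ) = 2 ^ 3 * 15 from rfl,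
      Nat.factorization_mul (by norm_num) (by norm_num), Finsupp.add_apply,
      Nat.prime_two.factorization_pow,
      Nat.factorization_eq_zero_of_not_dvd (show ¬(2 ∣ 15) by norm_num)]
    simp
  let P' : Sylow 2 Model := Sylow.ofCard P (by rw [hP, hf]; rfl)
  let Q' : Sylow 2 Model := Sylow.ofCard sylM (by rw [card_sylM, hf]; rfl)
  obtain ⟨k, hk⟩ := MulAction.exists_smul_eq Model P' Q'
  exact ⟨k, congrArg Sylow.toSubgroup hk⟩

theorem gen_y3 : pX * y5 * pX * y5 * y5 * y5 * pX = y3 := by decide +kernel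

theorem a5_gen_dec : ∀ a : A5, ∃ i : Fin 3, ∃ j : Fin 5, ∃ b : A5,
    (b ^ 2 = 1 ∧ (b : Equiv.Perm (Fin 5)) 4 = 4) ∧ b * y3 ^ i.val * y5 ^ j.val = a := by
  decide +kernel

theorem four_cases : ∀ b : A5, b ^ 2 = 1 → (b : Equiv.Perm (Fin 5)) 4 = 4 →
    b = 1 ∨ b = pX ∨ b = pW ∨ b = pX * pW := by decide +kernel

theorem gen_eq_top (H : Subgroup A5) (hX : pX ∈ H) (hW : pW ∈ H) (h5 : y5 ∈ H) : H = ⊤ := by
  have h3 : y3 ∈ H := gen_y3 ▸ by
    repeat' apply mul_mem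
    all_goals assumption
  refine eq_top_iff.2 fun a _ => ?_
  obtain ⟨i, j, b, ⟨hb1, hb2⟩, rfl⟩ := a5_gen_dec a
  refine mul_mem (mul_mem ?_ (pow_mem h3 _)) (pow_mem h5 _)
  rcases four_cases b hb1 hb2 with rfl | rfl | rfl | rfl
  · exact one_mem H
  · exact hX
  · exact hW
  · exact mul_mem hX hW

theorem y5_rels : y5 ^ 5 = 1 ∧ (pX * y5) ^ 3 = 1 ∧ (pW * y5) ^ 5 = 1 := by
  refine ⟨?_, ?_, ?_⟩ <;> decide +kernel

theorem y5_image_dec : ∀ c : A5, c ^ 5 = 1 → (pX * c) ^ 3 = 1 → (pW * c) ^ 5 = 1 →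
    ∃ v : A5, (v ^ 2 = 1 ∧ (v : Equiv.Perm (Fin 5)) 4 = 4) ∧ v * y5 * v⁻¹ = c := by
  decide +kernel

theorem four_comm : ∀ v : A5, v ^ 2 = 1 → (v : Equiv.Perm (Fin 5)) 4 = 4 →
    v * pX * v⁻¹ = pX ∧ v * pW * v⁻¹ = pW := by decide +kernel

/-- An automorphism fixing `sylM` pointwise is conjugation by an element of `fourM`. -/
theorem aut_fix (α : Model ≃* Model) (h : ∀ m ∈ sylM, α m = m) :
    ∃ v ∈ fourM, ∀ m, α m = v * m * v⁻¹ := by
  let β : A5 →* A5 := (MonoidHom.snd C2 A5).comp (α.toMonoidHom.comp (MonoidHom.inr C2 A5))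
  have hα : ∀ a : A5, α (1, a) = (1, β a) := fun a => Prod.ext (aut_fst α rfl) rfl
  have hX : β pX = pX := congrArg Prod.snd (h (1, pX) four_mem.1)
  have hW : β pW = pW := congrArg Prod.snd (h (1, pW) four_mem.2)
  obtain ⟨h5, hx, hw⟩ := y5_rels
  obtain ⟨v, hv, hc⟩ := y5_image_dec (β y5) (by rw [← map_pow, h5, map_one])
    (by rw [← hX, ← map_mul, ← map_pow, hx, map_one])
    (by rw [← hW, ← map_mul, ← map_pow, hw, map_one])
  refine ⟨(1, v), ⟨rfl, hv⟩, fun m => ?_⟩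
  have heq : β = (MulAut.conj v).toMonoidHom := by
    refine MonoidHom.ext fun a => ?_
    have := gen_eq_top (MonoidHom.eqLocus β (MulAut.conj v).toMonoidHom)
      (hX.trans (four_comm v hv.1 hv.2).1.symm) (hW.trans (four_comm v hv.1 hv.2).2.symm) hc.symm
    have h2 := Subgroup.mem_top a
    rw [← this] at h2
    exact h2
  obtain ⟨i, a⟩ := m
  have e : ((i, a) : Model) = (i, 1) * (1, a) := Prod.ext (mul_one i).symm (one_mul a).symm
  rw [e, map_mul, h (i, 1) ⟨one_pow 2, rfl⟩, hα, heq]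
  exact Prod.ext (by simp) (by simp)

/-- A normal subgroup without `tau` and with a nontrivial element contains `1 × A5`. -/
theorem normal_snd (L : Subgroup Model) [L.Normal] (hτ : tau ∉ L) {x : Model} (hx : x ∈ L)
    (hx1 : x ≠ 1) : ∀ a : A5, ((1, a) : Model) ∈ L := by
  haveI : IsSimpleGroup A5 := alternatingGroup.isSimpleGroup (by simp)
  let K : Subgroup A5 := L.comap (MonoidHom.inr C2 A5)
  have hK : K.Normal := Subgroup.Normal.comap inferInstance _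
  rcases IsSimpleGroup.eq_bot_or_eq_top_of_normal K hK with hb | ht
  · exfalso
    have key : ∀ k : A5, (1, k) * x * (1, k)⁻¹ * x⁻¹ = (1 : Model) := fun k => by
      have hmem : (1, k) * x * (1, k)⁻¹ * x⁻¹ ∈ L :=
        L.mul_mem (Subgroup.Normal.conj_mem inferInstance x hx _) (L.inv_mem hx)
      have e : (1, k) * x * (1, k)⁻¹ * x⁻¹ = ((1 : C2), k * x.2 * k⁻¹ * x.2⁻¹) :=
        Prod.ext (by simp) (by simp)
      rw [e] at hmem ⊢
      have : k * x.2 * k⁻¹ * x.2⁻¹ ∈ K := hmem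
      rw [hb, Subgroup.mem_bot] at this
      rw [this]
      rfl
    have hc : ∀ k, x * k = k * x := fun k => by
      have h1 := congrArg Prod.snd (key k.2)
      simp only [Prod.snd_mul, Prod.snd_inv, Prod.snd_one] at h1
      rw [mul_inv_eq_one, mul_inv_eq_iff_eq_mul] at h1
      exact Prod.ext (mul_comm _ _) h1.symm
    rcases center_mem hc with h | h
    · exact hx1 h
    · exact hτ (h ▸ hx)
  · intro a
    have : a ∈ K := ht ▸ Subgroup.mem_top a
    exact this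

theorem odd_normal_eq_bot (L : Subgroup Model) [L.Normal] (hodd : Odd (Nat.card L)) : L = ⊥ := by
  by_contra hne
  obtain ⟨x, hx, hx1⟩ := (L.bot_or_exists_ne_one.resolve_left hne)
  have htwo : ∀ y ∈ L, y * y = 1 → y = 1 := fun y hy hyy => by
    by_contra hy1
    have h2 : orderOf y = 2 := orderOf_eq_prime (by rwa [pow_two]) hy1
    have hd : orderOf (⟨y, hy⟩ : L) ∣ Nat.card L := orderOf_dvd_natCard _
    rw [Subgroup.orderOf_mk, h2] at hd
    exact Nat.not_even_iff_odd.2 hodd (even_iff_two_dvd.2 hd)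
  have hτ : tau ∉ L := fun h => tau_ne (htwo _ h tau_mul_tau)
  have := htwo _ (normal_snd L hτ hx hx1 pX) (sylM_sq four_mem.1)
  exact absurd (congrArg Prod.snd this) (by decide +kernel)

end H58.WJ1
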