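import Cfsg.Agent.H58.WeakJ1.Local

/-!
The Sylow subgroup splits over `E`.
-/

set_option autoImplicit false

namespace H58.WJ1

open Subgroup H16.J1

universe u

variable {G : Type u} [Group G]

namespace Hyp

variable (X : Hyp G) [Finite G]

theorem E_inf_centralizer {x : G} (hx : x ∈ X.E) (hc : x ∈ centralizer (X.N : Set G)) : x = 1 := by
  have key : ∀ {s : G}, s ∈ X.E → s ≠ 1 → x = 1 ∨ x = s := fun {s} hs hs1 =>
    (X.emb hs hs1).center ((X.emb hs hs1).le_wcl hx)
      fun y hy => X.comm_of_mem hc (X.wcl_le_N hs hs1 hy)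
  rcases key X.t_mem_E X.t_ne with h | h
  · exact h
  · obtain ⟨a, ha, ha1⟩ : ∃ a ∈ X.et.V, a ≠ 1 := by
      refine X.et.V.bot_or_exists_ne_one.resolve_left fun h => ?_
      have := X.et.card_V
      rw [h, card_bot] at this
      omega
    rcases key (X.et.V_le ha) ha1 with h' | h'
    · exact h'
    · exact absurd (h.symm.trans h' ▸ ha) X.et.self_not_mem

/-- The Sylow subgroup is the product of `E` and a subgroup centralising `N`. -/
theorem split {x : G} (hx : x ∈ (X.S : Subgroup G)) :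
    ∃ e ∈ X.E, e * x ∈ centralizer (X.N : Set G) := by
  classical
  haveI : Fact (Nat.Prime 2) := ⟨Nat.prime_two⟩
  have hxE : ∀ y ∈ X.E, x * y = y * x := fun y hy => X.S_comm hx hy
  -- the elements of `N(E)` fixing the coset `E x`
  let F : Subgroup G :=
    { carrier := {f | f ∈ normalizer (X.E : Set G) ∧ f * x * f⁻¹ * x⁻¹ ∈ X.E}
      one_mem' := ⟨one_mem _, by simp⟩
      mul_mem' := fun {f g} hf hg => ⟨mul_mem hf.1 hg.1, by
        have := mul_mem (conj_mem_of_mem_normalizer hf.1 hg.2) hf.2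
        rwa [show f * (g * x * g⁻¹ * x⁻¹) * f⁻¹ * (f * x * f⁻¹ * x⁻¹) =
          f * g * x * (f * g)⁻¹ * x⁻¹ by group] at this⟩
      inv_mem' := fun {f} hf => ⟨inv_mem hf.1, by
        have := inv_mem (conj_mem_of_mem_normalizer (inv_mem hf.1) hf.2)
        rwa [show (f⁻¹ * (f * x * f⁻¹ * x⁻¹) * f⁻¹⁻¹)⁻¹ = f⁻¹ * x * f⁻¹⁻¹ * x⁻¹ by group]
          at this⟩ }
  -- commutators of `x` with elements centralising `E` vanish
  have hcent : ∀ c ∈ F, (∀ y ∈ X.E, c * y = y * c) → c * x * c⁻¹ = x := by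
    intro c hcF hcE
    suffices h : c * x * c⁻¹ * x⁻¹ ∈ centralizer (X.N : Set G) by
      exact mul_inv_eq_one.1 (X.E_inf_centralizer hcF.2 h)
    refine X.comm_N fun s hs hs1 w hw => ?_
    let e := X.emb hs hs1
    obtain ⟨v, hv, hact⟩ := e.act hcE
    obtain ⟨u, hu, hact'⟩ := e.act hxE
    have hcomm := e.comm (e.V_le hv) (e.V_le hu)
    have hv' : v ∈ wcl s := e.le_wcl (e.V_le hv)
    have hu' : u ∈ wcl s := e.le_wcl (e.V_le hu)
    set w₁ := x⁻¹ * w * x with hw₁
    have hw1m : w₁ ∈ wcl s := by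
      have := wcl_invariant (c := x⁻¹) ((show Commute x s from hxE s hs).inv_left.eq) hw
      rwa [inv_inv] at this
    set w₂ := c⁻¹ * w₁ * c with hw₂
    have hw2m : w₂ ∈ wcl s := by
      have := wcl_invariant (c := c⁻¹) ((show Commute c s from hcE s hs).inv_left.eq) hw1m
      rwa [inv_inv] at this
    have e1 : u * w₂ * u⁻¹ ∈ wcl s := mul_mem (mul_mem hu' hw2m) (inv_mem hu')
    have e2 : c * (x * w₂ * x⁻¹) * c⁻¹ = w := by
      have ew : w = x * (c * w₂ * c⁻¹) * x⁻¹ := by rw [hw₂, hw₁]; group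
      calc c * (x * w₂ * x⁻¹) * c⁻¹ = v * (u * w₂ * u⁻¹) * v⁻¹ := by
            rw [hact' w₂ hw2m, hact _ e1]
        _ = u * (v * w₂ * v⁻¹) * u⁻¹ := by
            calc v * (u * w₂ * u⁻¹) * v⁻¹ = (v * u) * w₂ * (v * u)⁻¹ := by group
              _ = (u * v) * w₂ * (u * v)⁻¹ := by rw [hcomm]
              _ = u * (v * w₂ * v⁻¹) * u⁻¹ := by group
        _ = w := by
            rw [ew, hact w₂ hw2m, hact' _ (mul_mem (mul_mem hv' hw2m) (inv_mem hv'))]
    apply mul_inv_eq_iff_eq_mul.1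
    rw [show c * x * c⁻¹ * x⁻¹ * w * (c * x * c⁻¹ * x⁻¹)⁻¹ =
      c * (x * (c⁻¹ * (x⁻¹ * w * x) * c) * x⁻¹) * c⁻¹ by group]
    exact e2
  let K : Subgroup F := (centralizer (X.E : Set G)).subgroupOf F
  have hodd : Odd K.index := by
    have hd : K.index ∣ (centralizer (X.E : Set G)).relIndex (normalizer (X.E : Set G)) := by
      show (centralizer (X.E : Set G)).relIndex F ∣ _
      have hFN : F ≤ normalizer (X.E : Set G) := fun f hf => hf.1
      rw [← relIndex_subgroupOf hFN]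
      exact relIndex_dvd_index_of_normal _ _
    have hSC : (X.S : Subgroup G) ≤ centralizer (X.E : Set G) := fun g hg =>
      mem_centralizer_iff.2 fun y hy => (X.S_comm hg hy).symm
    have h1 := relIndex_mul_relIndex _ _ (normalizer (X.E : Set G)) hSC
      (centralizer_le_normalizer _)
    refine Nat.not_even_iff_odd.1 fun h => X.S.not_dvd_index ?_
    exact (even_iff_two_dvd.1 h).trans (hd.trans ((Dvd.intro_left _ h1).trans
      (relIndex_dvd_index_of_le X.S_le_normalizer)))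
  letI : CommGroup X.E :=
    { (inferInstance : Group X.E) with mul_comm := fun a b => Subtype.ext (X.et.comm a.2 b.2) }
  let ε : F → X.E := fun f => ⟨(f : G) * x * (f : G)⁻¹ * x⁻¹, f.2.2⟩
  have hεK : ∀ f k : F, k ∈ K → ε (f * k) = ε f := by
    intro f k hk
    have hk' := hcent k k.2 fun y hy => (mem_centralizer_iff.1 (mem_subgroupOf.1 hk) y hy).symm
    refine Subtype.ext ?_
    show (f : G) * k * x * ((f : G) * k)⁻¹ * x⁻¹ = (f : G) * x * (f : G)⁻¹ * x⁻¹
    rw [show (f : G) * k * x * ((f : G) * k)⁻¹ = (f : G) * ((k : G) * x * (k : G)⁻¹) * (f : G)⁻¹ by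
      group, hk']
  let εq : F ⧸ K → X.E := Quotient.lift ε (fun a b hab => by
    have := hεK a _ (QuotientGroup.leftRel_apply.1 hab)
    rw [mul_inv_cancel_left] at this
    exact this.symm)
  haveI : Fintype (F ⧸ K) := Fintype.ofFinite _
  let A : F → X.E →* X.E := fun g => MonoidHom.mk'
    (fun a => ⟨(g : G) * a * (g : G)⁻¹, conj_mem_of_mem_normalizer g.2.1 a.2⟩)
    (fun a b => Subtype.ext (by
      show (g : G) * (a * b) * (g : G)⁻¹ = (g : G) * a * (g : G)⁻¹ * ((g : G) * b * (g : G)⁻¹)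
      group))
  set P : X.E := ∏ q : F ⧸ K, εq q with hP
  have hn : ∀ a : X.E, a ^ Fintype.card (F ⧸ K) = a := by
    intro a
    obtain ⟨k, hk⟩ := hodd
    rw [← Nat.card_eq_fintype_card, ← index_eq_card, hk, pow_succ, pow_mul, pow_two,
      show a * a = 1 from Subtype.ext (X.et.sq a.2), one_pow, one_mul]
  have hkey : ∀ g : F, A g P * ε g = P := by
    intro g
    have e1 : ∀ q : F ⧸ K, εq (g • q) = A g (εq q) * ε g := by
      rintro ⟨f⟩
      refine Subtype.ext ?_
      show (g : G) * f * x * ((g : G) * f)⁻¹ * x⁻¹ =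
        (g : G) * ((f : G) * x * (f : G)⁻¹ * x⁻¹) * (g : G)⁻¹ *
          ((g : G) * x * (g : G)⁻¹ * x⁻¹)
      group
    calc A g P * ε g = (∏ q : F ⧸ K, A g (εq q)) * ε g ^ Fintype.card (F ⧸ K) := by
          rw [hn, hP, map_prod]
      _ = ∏ q : F ⧸ K, εq (g • q) := by
          rw [← Finset.card_univ, ← Finset.prod_const, ← Finset.prod_mul_distrib]
          simp only [e1]
      _ = P := Equiv.prod_comp (MulAction.toPerm g) εq
  have hPE : ∀ y ∈ X.E, (P : G) * x * y = y * ((P : G) * x) := fun y hy => by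
    rw [mul_assoc, hxE y hy, ← mul_assoc, X.et.comm P.2 hy, mul_assoc]
  refine ⟨P, P.2, X.comm_N fun s hs hs1 w hw => ?_⟩
  let e := X.emb hs hs1
  obtain ⟨u, hu, hact⟩ := e.act hxE
  have hhF : e.h ∈ F := by
    refine ⟨e.h_normalizer, ?_⟩
    have hh : e.h⁻¹ ∈ wcl s := inv_mem e.h_mem
    have e2 : e.h * x * e.h⁻¹ * x⁻¹ = e.h * u * e.h⁻¹ * u⁻¹ := by
      calc e.h * x * e.h⁻¹ * x⁻¹ = e.h * (x * e.h⁻¹ * x⁻¹) := by group
        _ = e.h * (u * e.h⁻¹ * u⁻¹) := by rw [hact _ hh]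
        _ = e.h * u * e.h⁻¹ * u⁻¹ := by group
    rw [e2]
    exact mul_mem (e.h_conj (e.V_le hu)) (inv_mem (e.V_le hu))
  -- `P x` is fixed by `h`
  have hfix : e.h * ((P : G) * x) * e.h⁻¹ = (P : G) * x := by
    have := congrArg Subtype.val (hkey ⟨e.h, hhF⟩)
    change e.h * (P : G) * e.h⁻¹ * (e.h * x * e.h⁻¹ * x⁻¹) = (P : G) at this
    calc e.h * ((P : G) * x) * e.h⁻¹
        = e.h * (P : G) * e.h⁻¹ * (e.h * x * e.h⁻¹ * x⁻¹) * x := by group
      _ = (P : G) * x := by rw [this]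
  obtain ⟨v, hv, hact'⟩ := e.act hPE
  have hvh : e.h * v = v * e.h := by
    have h1 := hact' e.h e.h_mem
    have h2 : (P : G) * x * e.h * ((P : G) * x)⁻¹ = e.h := by
      rw [← mul_inv_eq_iff_eq_mul.1 hfix, mul_inv_cancel_right]
    rw [h2] at h1
    exact mul_inv_eq_iff_eq_mul.1 h1.symm |>.symm
  rcases e.h_fix (e.V_le hv) hvh with h | h
  · have := hact' w hw
    rw [h, one_mul, inv_one, mul_one] at this
    exact mul_inv_eq_iff_eq_mul.1 this
  · exact absurd (h ▸ hv) e.self_not_mem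

end Hyp

end H58.WJ1
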