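import Cfsg.Agent.H58.WeakJ1.Split
import Cfsg.Agent.H58.WeakJ1.J1Facts
import Cfsg.Agent.H79.CoprimeGen
import Cfsg.Agent.H1.Cores
import Cfsg.Agent.H85.BrauerSuzuki
import Cfsg.Prelude.Def_Spor_J1

/-!
Passing to subgroups, quotients, odd cores.
-/

set_option autoImplicit false
set_option maxHeartbeats 400000

namespace H58.WJ1

open Subgroup H16.J1

universe u

variable {G : Type u} [Group G]

namespace Hyp

variable (X : Hyp G)

/-- The conclusion. -/
def Good : Prop :=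
  Cfsg.Spor.IsoJ1 ↥(normalClosure ({X.t} : Set G)) ∧ normalClosure ({X.t} : Set G) ≤ X.N

variable [Finite G]

theorem exists_N_conj_of_comm {y : G} (hy : ∃ g : G, y = g * X.t * g⁻¹)
    (hc : y * X.t = X.t * y) : ∃ n ∈ X.N, y = n * X.t * n⁻¹ := by
  obtain ⟨g, hg⟩ := hy
  obtain ⟨w, hw, hwE⟩ := X.et.invol_conj (mem_wcl_of_conj ⟨g, hg⟩ hc) (X.conj_sq ⟨g, hg⟩)
  have h1 : w * y * w⁻¹ ≠ 1 := fun h => by
    rw [conj_eq_one_iff, hg, conj_eq_one_iff] at h
    exact X.t_ne h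
  obtain ⟨n, hn, -, hns⟩ := X.exists_NE_conj hwE h1
  refine ⟨w⁻¹ * n, mul_mem (inv_mem (X.wcl_le_N X.t_mem_E X.t_ne hw)) hn, ?_⟩
  calc y = w⁻¹ * (w * y * w⁻¹) * w := by group
    _ = _ := by rw [hns]; group

theorem N_le_normalClosure : X.N ≤ normalClosure ({X.t} : Set G) := by
  refine (closure_le _).2 ?_
  rintro x ⟨s, hs, hs1, hx⟩
  obtain ⟨g, hg⟩ := X.all_conj hs hs1
  have hle : wcl s ≤ normalClosure ({X.t} : Set G) := by
    refine (closure_le _).2 ?_
    rintro y ⟨k, rfl, -⟩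
    rw [hg, show k * (g * X.t * g⁻¹) * k⁻¹ = (k * g) * X.t * (k * g)⁻¹ by group]
    exact (normalClosure_normal (s := {X.t})).conj_mem X.t
      (subset_normalClosure (Set.mem_singleton _)) (k * g)
  exact hle hx

theorem t_mem_N : X.t ∈ X.N := X.E_le_N X.t_mem_E

/-- The hypothesis passes to a subgroup containing `N`. -/
theorem sub_hyp (K : Subgroup G) (hN : X.N ≤ K) :
    ∃ Y : Hyp K, (Y.t : G) = X.t ∧ Y.N.map K.subtype ≤ X.N := by
  haveI : Fact (Nat.Prime 2) := ⟨Nat.prime_two⟩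
  have htK : X.t ∈ K := hN X.t_mem_N
  set t' : K := ⟨X.t, htK⟩
  have hE2 : IsPGroup 2 X.E := X.S.2.to_le inf_le_left
  obtain ⟨P, hP⟩ := (hE2.comap_of_injective K.subtype K.subtype_injective).exists_le_sylow
  have hPt : t' ∈ (P : Subgroup K) := hP (mem_comap.2 X.t_mem_E)
  have hPc : ∀ p ∈ (P : Subgroup K), p * t' = t' * p := fun p hp => Subtype.ext
    (X.two_group_comm (P.2.map K.subtype) ⟨t', hPt, rfl⟩ (q := (p : G)) ⟨p, hp, rfl⟩)
  have hmono : ∀ r : K, (wcl r).map K.subtype ≤ wcl (r : G) := by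
    intro r
    rw [map_le_iff_le_comap]
    refine (closure_le _).2 ?_
    rintro y ⟨k, hk, hc⟩
    exact mem_wcl_of_conj (x := (y : G)) ⟨k, congrArg Subtype.val hk⟩ (congrArg Subtype.val hc)
  have hwK : wcl X.t ≤ (wcl t').map K.subtype := by
    refine (closure_le _).2 ?_
    rintro y ⟨g, hg, hc⟩
    obtain ⟨n, hn, hyn⟩ := X.exists_N_conj_of_comm ⟨g, hg⟩ hc
    have hyK : y ∈ K := hyn ▸ mul_mem (mul_mem (hN hn) htK) (inv_mem (hN hn))
    exact ⟨⟨y, hyK⟩, mem_wcl_of_conj ⟨⟨n, hN hn⟩, Subtype.ext hyn⟩ (Subtype.ext hc), rfl⟩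
  obtain ⟨i⟩ := X.iso
  let Y : Hyp K :=
    { t := t'
      S := P
      ht := by rw [Subgroup.orderOf_mk]; exact X.ht
      htS := hPt
      htc := hPc
      iso := ⟨((wcl t').equivMapOfInjective K.subtype K.subtype_injective).trans
        ((MulEquiv.subgroupCongr (le_antisymm (hmono t') hwK)).trans i)⟩ }
  refine ⟨Y, rfl, ?_⟩
  have hEY : Y.E.map K.subtype = X.E := by
    refine (eq_of_le_of_card_ge (fun x hx => ?_) ?_).symm
    · obtain ⟨x', hx', hxx⟩ := hwK ((inf_le_right : X.E ≤ wcl X.t) hx)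
      refine ⟨x', ⟨hP (mem_comap.2 ?_), hx'⟩, hxx⟩
      rw [hxx]; exact hx
    · rw [Nat.card_congr (Y.E.equivMapOfInjective K.subtype K.subtype_injective).symm.toEquiv,
        Y.card_E, X.card_E]
  rw [map_le_iff_le_comap]
  refine (closure_le _).2 ?_
  rintro x ⟨s, hs, hs1, hx⟩
  have hsE : (s : G) ∈ X.E := hEY ▸ mem_map_of_mem K.subtype hs
  exact X.wcl_le_N hsE (fun h => hs1 (Subtype.ext h)) (hmono s (mem_map_of_mem K.subtype hx))

theorem sub_apply
    (ih : ∀ (H : Type u) [Group H] [Finite H], Nat.card H < Nat.card G → ∀ Y : Hyp H, Y.Good)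
    (K : Subgroup G) (hK : K ≠ ⊤) (hN : X.N ≤ K) :
    K ≤ X.M0 ∧ Nonempty (↥X.N ≃* J1') := by
  obtain ⟨Y, hYt, hYN⟩ := X.sub_hyp K hN
  have hlt : Nat.card K < Nat.card G := lt_of_le_of_ne (card_le_card_group K)
    fun h => hK (eq_top_of_card_eq K h)
  obtain ⟨⟨i⟩, hle⟩ := ih K hlt Y
  set L := normalClosure ({Y.t} : Set K)
  have htL : X.t ∈ L.map K.subtype :=
    ⟨Y.t, subset_normalClosure (s := {Y.t}) (Set.mem_singleton _), hYt⟩
  have hconj : ∀ k ∈ K, ∀ x ∈ L.map K.subtype, k * x * k⁻¹ ∈ L.map K.subtype := by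
    rintro k hk _ ⟨x, hx, rfl⟩
    exact ⟨⟨k, hk⟩ * x * ⟨k, hk⟩⁻¹, (normalClosure_normal (s := {Y.t})).conj_mem x hx _, rfl⟩
  have hNL : X.N ≤ L.map K.subtype := by
    refine (closure_le _).2 ?_
    rintro x ⟨s, hs, hs1, hx⟩
    obtain ⟨n, hn, -, rfl⟩ := X.exists_NE_conj hs hs1
    rw [wcl_conj] at hx
    have hw : wcl X.t ≤ L.map K.subtype := by
      refine (closure_le _).2 ?_
      rintro y ⟨g, hg, hc⟩
      obtain ⟨m, hm, rfl⟩ := X.exists_N_conj_of_comm ⟨g, hg⟩ hc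
      exact hconj m (hN hm) _ htL
    obtain ⟨y, hy, rfl⟩ := hx
    exact hconj n (hN hn) y (hw hy)
  have heq : L.map K.subtype = X.N := le_antisymm ((map_mono hle).trans hYN) hNL
  refine ⟨fun k hk => mem_normalizer_of_forall fun x hx => ?_,
    ⟨((MulEquiv.subgroupCongr heq.symm).trans
      (L.equivMapOfInjective K.subtype K.subtype_injective).symm).trans i⟩⟩
  rw [← heq] at hx ⊢
  exact hconj k hk x hx

theorem odd_normal_comm {O : Subgroup G} [O.Normal] (hO : (Nat.card O).Coprime 2) :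
    ∀ o ∈ O, o * X.t = X.t * o := by
  haveI : Fact (Nat.Prime 2) := ⟨Nat.prime_two⟩
  have hE : O ≤ centralizer (X.E : Set G) := by
    haveI : IsMulCommutative X.E := ⟨⟨fun a b => Subtype.ext (X.et.comm a.2 b.2)⟩⟩
    refine H79.le_of_centralizers_le (A := X.E) (p := 2)
      (fun a ha => by rw [pow_two]; exact X.et.sq ha) ?_ ?_ hO ?_
    · intro hcyc
      obtain ⟨g, hg⟩ := hcyc.exists_generator
      have h8 : orderOf g = 8 := by rw [orderOf_eq_card_of_forall_mem_zpowers hg, X.card_E]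
      have : orderOf g ∣ 2 := orderOf_dvd_of_pow_eq_one
        (Subtype.ext (by rw [pow_two]; exact X.et.sq g.2))
      rw [h8] at this
      norm_num at this
    · exact fun a _ => mem_normalizer_of_forall fun x hx => ‹O.Normal›.conj_mem x hx a
    · intro s hs hs1 x hx
      let e := X.emb hs hs1
      have hxs : x * s = s * x := mem_centralizer_singleton_iff.1 hx.2
      let L := O.comap e.φ
      have hLn : L.Normal := inferInstance
      have hLb : L = ⊥ := odd_normal_eq_bot L (Nat.coprime_two_right.1 (hO.coprime_dvd_left (by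
        rw [Nat.card_congr (L.equivMapOfInjective e.φ e.inj).toEquiv]
        exact card_dvd_of_le (map_comap_le _ _))))
      refine mem_centralizer_iff.2 fun w hw => ?_
      have hw' := e.le_wcl hw
      have hc : x * w * x⁻¹ * w⁻¹ ∈ wcl s :=
        mul_mem (wcl_invariant hxs hw') (inv_mem hw')
      obtain ⟨m, hm⟩ := e.exists_of_mem hc
      have hmL : m ∈ L := by
        rw [mem_comap, hm]
        have := ‹O.Normal›.conj_mem x⁻¹ (inv_mem hx.1) w
        have h2 := mul_mem hx.1 this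
        rwa [show x * (w * x⁻¹ * w⁻¹) = x * w * x⁻¹ * w⁻¹ by group] at h2
      rw [hLb, mem_bot] at hmL
      rw [hmL, map_one] at hm
      exact (mul_inv_eq_iff_eq_mul.1 (mul_inv_eq_one.1 hm.symm)).symm
  exact fun o ho => (mem_centralizer_iff.1 (hE ho) X.t X.t_mem_E).symm

omit [Finite G] in
theorem mem_center_of_comm (htop : normalClosure ({X.t} : Set G) = ⊤) {o : G}
    (h : ∀ g : G, o * (g * X.t * g⁻¹) = g * X.t * g⁻¹ * o) : o ∈ center G := by
  have hle : normalClosure ({X.t} : Set G) ≤ centralizer ({o} : Set G) := by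
    refine (closure_le _).2 ?_
    intro x hx
    obtain ⟨a, ha, hax⟩ := Group.mem_conjugatesOfSet_iff.1 hx
    obtain ⟨g, hg⟩ := isConj_iff.1 hax
    rw [Set.mem_singleton_iff.1 ha] at hg
    rw [← hg]
    exact mem_centralizer_singleton_iff.2 (h g).symm
  rw [htop] at hle
  exact mem_center_iff.2 fun g => mem_centralizer_singleton_iff.1 (hle (mem_top g))

theorem t_not_central : X.t ∉ center G := by
  intro h
  obtain ⟨x, ⟨-, g, rfl⟩, hne⟩ := X.exists_Om_ne
  exact hne (by rw [mem_center_iff.1 h g, mul_inv_cancel_right])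

theorem center_inf_wcl {x : G} (hx : x ∈ center G) (hw : x ∈ wcl X.t) : x = 1 :=
  (X.et.center hw fun y _ => (mem_center_iff.1 hx y).symm).resolve_right
    fun h => X.t_not_central (h ▸ hx)

/-- The hypothesis passes to the quotient by a central subgroup. -/
theorem quot_hyp (C : Subgroup G) [C.Normal] (hC : C ≤ center G) :
    ∃ Y : Hyp (G ⧸ C), Y.t = QuotientGroup.mk' C X.t := by
  haveI : Fact (Nat.Prime 2) := ⟨Nat.prime_two⟩
  set π := QuotientGroup.mk' C
  have hker : ∀ x : G, π x = 1 ↔ x ∈ C := fun x => QuotientGroup.eq_one_iff x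
  have htC : X.t ∉ C := fun h => X.t_not_central (hC h)
  have hS : ((X.S.mapSurjective (QuotientGroup.mk'_surjective C) : Sylow 2 (G ⧸ C)) :
      Subgroup (G ⧸ C)) = (X.S : Subgroup G).map π := rfl
  have hle : ∀ y : G ⧸ C, (∃ g, y = g * π X.t * g⁻¹) → y * π X.t = π X.t * y →
      y ∈ (wcl X.t).map π := by
    rintro _ ⟨g, rfl⟩ hc
    obtain ⟨g, rfl⟩ := QuotientGroup.mk'_surjective C g
    set x := g * X.t * g⁻¹ with hx
    have hx' : π g * π X.t * (π g)⁻¹ = π x := by rw [hx, map_mul, map_mul, map_inv]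
    rw [hx'] at hc ⊢
    set c := X.t * (x * X.t * x⁻¹) with hcdef
    have hcC : c ∈ C := by
      rw [← hker, hcdef, map_mul, map_mul, map_mul, map_inv, hc, mul_assoc (π X.t), mul_inv_cancel,
        mul_one, ← map_mul, X.tt, map_one]
    have hcc := mem_center_iff.1 (hC hcC)
    have hxt : x * X.t * x⁻¹ = X.t * c := by rw [hcdef, ← mul_assoc, X.tt, one_mul]
    have hcomm : x * X.t * x⁻¹ * X.t = X.t * (x * X.t * x⁻¹) := by rw [hxt, mul_assoc, ← hcc]
    have hmem : x * X.t * x⁻¹ ∈ wcl X.t := mem_wcl_of_conj ⟨x, rfl⟩ hcomm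
    have hc1 : c = 1 := X.center_inf_wcl (hC hcC) (by
      rw [hcdef]; exact mul_mem (self_mem_wcl _) hmem)
    rw [hc1, mul_one, mul_inv_eq_iff_eq_mul] at hxt
    exact ⟨x, mem_wcl_of_conj ⟨g, hx⟩ hxt, rfl⟩
  have heq : wcl (π X.t) = (wcl X.t).map π := by
    refine le_antisymm ((closure_le _).2 fun y ⟨g, hy, hc⟩ => hle y ⟨g, hy⟩ hc) ?_
    rw [map_le_iff_le_comap]
    refine (closure_le _).2 ?_
    rintro x ⟨g, hx, hc⟩
    exact mem_wcl_of_conj (x := π x) ⟨π g, by rw [hx, map_mul, map_mul, map_inv]⟩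
      (by rw [← map_mul, hc, map_mul])
  have hinj : Function.Injective (π.subgroupMap (wcl X.t)) := by
    refine (injective_iff_map_eq_one _).2 fun x hx => Subtype.ext ?_
    exact X.center_inf_wcl (hC ((hker x).1 (congrArg Subtype.val hx))) x.2
  obtain ⟨i⟩ := X.iso
  refine ⟨Hyp.mk (π X.t) (X.S.mapSurjective (QuotientGroup.mk'_surjective C)) ?_ ?_ ?_ ?_, rfl⟩
  · refine orderOf_eq_prime ?_ fun h => htC ((hker _).1 h)
    rw [← map_pow, pow_two, X.tt, map_one]
  · rw [hS]; exact mem_map_of_mem π X.htS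
  · rw [hS]
    rintro _ ⟨s, hs, rfl⟩
    rw [← map_mul, X.htc s hs, map_mul]
  · exact ⟨((MulEquiv.subgroupCongr heq).trans (MulEquiv.ofBijective (π.subgroupMap (wcl X.t))
      ⟨hinj, π.subgroupMap_surjective _⟩).symm).trans i⟩

theorem hom_eq_one (htop : normalClosure ({X.t} : Set G) = ⊤) {A : Type*} [CommGroup A]
    (f : G →* A) : f = 1 := by
  obtain ⟨a, ha, hat⟩ := X.exists_Om_ne
  have hf : ∀ {x : G}, x ∈ X.E → x ≠ 1 → f x = f X.t := fun {x} hx hx1 => by
    obtain ⟨g, hg⟩ := X.all_conj hx hx1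
    rw [hg, map_mul, map_mul, map_inv, mul_comm (f g), mul_inv_cancel_right]
  have hne : X.t * a ≠ 1 := fun h => hat
    ((eq_inv_of_mul_eq_one_right h).trans (X.et.inv_eq X.t_mem_E))
  have h1 := hf (mul_mem X.t_mem_E ha.1) hne
  rw [map_mul, mul_eq_left] at h1
  have ht1 : f X.t = 1 := (hf ha.1 (X.Om_ne_one ha)).symm.trans h1
  have hle : normalClosure ({X.t} : Set G) ≤ f.ker := normalClosure_le_normal (by
    intro y hy
    rw [Set.mem_singleton_iff.1 hy]
    exact ht1)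
  rw [htop] at hle
  exact MonoidHom.ext fun g => hle (mem_top g)

end Hyp

end H58.WJ1
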